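import Cfsg.Agent.Lib.L43Three.CaseB.Invol.Rigid
import Mathlib.Combinatorics.Pigeonhole

/-!
S3373, case B: the centraliser of the diagonal involution lies in the image.
-/

set_option autoImplicit false
set_option linter.style.haveILetI false
set_option linter.unusedSectionVars false
set_option maxHeartbeats 1000000
set_option maxRecDepth 20000
set_option synthInstance.maxSize 1000

namespace Cfsg.Agent.L43Three.CaseB

open Subgroup

/-- The three quaternions, as images of `i` under the unipotent element. -/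
def cq (a : K) : M2 := (qUp a).mul (qI.mul (qUp (-a)))

theorem cq_mem : ∀ a : K, cq a ∈ [qI, qJ, qK] := by decide +kernel

theorem dg_ne_ad {A B C D : M2} (h : A.det.mul B.det = .o) : dg A B ≠ ad C D := by
  intro e
  simp only [dg, ad, M4.mk.injEq, R4.mk.injEq] at e
  have e1 : A = M2.zero := by
    obtain ⟨a, b, c, d⟩ := A
    obtain ⟨⟨ea, eb, -, -⟩, ⟨ec, ed, -, -⟩, -⟩ := e
    simp only at ea eb ec ed
    subst ea eb ec ed
    rfl
  rw [e1] at h
  exact absurd h (by
    have : ∀ b : F3, (M2.zero).det.mul b ≠ .o := by decide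
    exact this _)

namespace Hyp

universe u

variable {G : Type u} [Group G] [Finite G] (P : Hyp G)

/-- The kind of an element of the image in the centraliser of the involution. -/
def Typ (b : Bool × Bool) (w : G) : Prop :=
  ∃ A B x, P.f x = w ∧ A.det.mul B.det = .o ∧
    code x = (if b.1 then dg A B else ad A B) ∧ A.det = (if b.2 then .o else .d)

include P

theorem exists_typ {w : G} (hX : w ∈ centralizer ({P.f t4} : Set G)) (hH : w ∈ P.f.range) :
    ∃ b, P.Typ b w := by
  have key : ∀ a b : F3, a.mul b = .o → a = .o ∨ a = .d := by decide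
  obtain ⟨A, B, ⟨x, hx, hc, hd⟩ | ⟨x, hx, hc, hd⟩⟩ := P.blocks_of_mem hX hH
  · rcases key _ _ hd with e | e
    · exact ⟨(true, true), A, B, x, hx, hd, by simpa using hc, by simpa using e⟩
    · exact ⟨(true, false), A, B, x, hx, hd, by simpa using hc, by simpa using e⟩
  · rcases key _ _ hd with e | e
    · exact ⟨(false, true), A, B, x, hx, hd, by simpa using hc, by simpa using e⟩
    · exact ⟨(false, false), A, B, x, hx, hd, by simpa using hc, by simpa using e⟩

theorem special_of_typ {b : Bool × Bool} {w w' : G} (hX : w ∈ centralizer ({P.f t4} : Set G))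
    (hX' : w' ∈ centralizer ({P.f t4} : Set G)) (h : P.Typ b w) (h' : P.Typ b w') :
    ∃ C E : M2, C.det = .o ∧ E.det = .o ∧ w⁻¹ * w' = P.D C E := by
  obtain ⟨A, B, x, rfl, hd, hc, hA⟩ := h
  obtain ⟨A', B', x', rfl, hd', hc', hA'⟩ := h'
  have hz : (P.f x)⁻¹ * P.f x' = P.f (x⁻¹ * x') := by rw [map_mul, map_inv]
  have hcode : M4.mul (code x) (code (x⁻¹ * x')) = code x' := by
    rw [← code_mul, mul_inv_cancel_left]
  obtain ⟨C, E, ⟨z, hz', hcz, hdz⟩ | ⟨z, hz', hcz, hdz⟩⟩ :=
    P.blocks_of_mem (mul_mem (inv_mem hX) hX') ⟨x⁻¹ * x', hz.symm⟩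
  · have hzc := P.code_of_eq (hz'.trans hz)
    have hcode' : M4.mul (code x) (code z) = code x' ∨
        M4.mul (code x) (code z) = M4.neg (code x') := by
      rcases hzc with e | e
      · exact Or.inl (by rw [e, hcode])
      · refine Or.inr ?_
        have h1 : code (x * -(x⁻¹ * x')) = M4.neg (code x') := by
          rw [mul_neg, code_neg, mul_inv_cancel_left]
        rwa [code_mul, code_neg, ← e] at h1
    refine ⟨C, E, ?_, ?_, by rw [← hz']; exact congrArg P.f (eq_mkS hcz)⟩ <;>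
    · rw [hc, hc', hcz] at hcode'
      have dm : ∀ A C : M2, (A.mul C).det = A.det.mul C.det := by decide +kernel
      have dn : ∀ A : M2, A.neg.det = A.det := by decide +kernel
      have key : ∀ a c e : F3, c.mul e = .o → a ≠ .z →
          (a.mul c = a ∨ a.mul e = a) → c = .o ∧ e = .o := by decide
      have ha : A.det ≠ .z := (M2.det_ne_of_mul hd).1
      have hAA : A'.det = A.det := by rw [hA, hA']
      obtain ⟨k1, k2⟩ := key A.det C.det E.det hdz ha (by
        rcases b with ⟨b₁, b₂⟩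
        cases b₁
        · simp only [if_neg Bool.false_ne_true, ad_mul_dg, neg_ad] at hcode'
          refine Or.inr ?_
          rcases hcode' with e | e
          · rw [← dm, (ad_injective e).1, hAA]
          · rw [← dm, (ad_injective e).1, dn, hAA]
        · simp only [if_true, dg_mul_dg, neg_dg] at hcode'
          refine Or.inl ?_
          rcases hcode' with e | e
          · rw [← dm, (dg_injective e).1, hAA]
          · rw [← dm, (dg_injective e).1, dn, hAA])
      assumption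
  · exfalso
    have hzc := P.code_of_eq (hz'.trans hz)
    have hcode' : M4.mul (code x) (code z) = code x' ∨
        M4.mul (code x) (code z) = M4.neg (code x') := by
      rcases hzc with e | e
      · exact Or.inl (by rw [e, hcode])
      · refine Or.inr ?_
        have h1 : code (x * -(x⁻¹ * x')) = M4.neg (code x') := by
          rw [mul_neg, code_neg, mul_inv_cancel_left]
        rwa [code_mul, code_neg, ← e] at h1
    rw [hc, hc', hcz] at hcode'
    have dn : ∀ A : M2, A.neg.det = A.det := by decide +kernel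
    rcases b with ⟨b₁, b₂⟩
    cases b₁
    · simp only [if_neg Bool.false_ne_true, ad_mul_ad, neg_ad] at hcode'
      have hdd : ∀ A B : M2, (A.mul B).det = A.det.mul B.det := by decide +kernel
      have : (A.mul E).det.mul (B.mul C).det = .o := by
        rw [hdd, hdd]
        exact (by decide : ∀ a b c e : F3, a.mul b = .o → c.mul e = .o →
          (a.mul e).mul (b.mul c) = .o) _ _ _ _ hd hdz
      rcases hcode' with e | e <;> exact dg_ne_ad this e
    · simp only [if_true, dg_mul_ad, neg_dg] at hcode'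
      rcases hcode' with e | e
      · exact dg_ne_ad hd' e.symm
      · exact dg_ne_ad (by rw [dn, dn]; exact hd') e.symm

/-- The centraliser of the diagonal involution lies in the image. -/
theorem centralizer_t4
    (h3 : ∀ x : S4, x ^ 3 = 1 → x ≠ 1 → centralizer ({P.f x} : Set G) ≤ P.f.range)
    (hS : ∀ (x : S4) (g : G), x ^ 3 = 1 → x ≠ 1 → g * P.f x * g⁻¹ ∈ P.f.range → g ∈ P.f.range) :
    centralizer ({P.f t4} : Set G) ≤ P.f.range := by
  classical
  by_contra hne
  obtain ⟨x₀, hx₀, hx₀H⟩ := SetLike.not_le_iff_exists.1 hne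
  set X : Subgroup G := centralizer ({P.f t4} : Set G) with hXdef
  set M : Subgroup X := P.f.range.subgroupOf X with hMdef
  haveI : Fintype (X ⧸ M) := Fintype.ofFinite _
  -- the nine involutions
  let ye : E9 → G := fun v => P.D (cq v.toAdd.1) (cq v.toAdd.2)
  have yed : ∀ v : E9, (cq v.toAdd.1).det.mul (cq v.toAdd.2).det = .o := by decide +kernel
  have yeX : ∀ v, ye v ∈ X := fun v => P.D_mem_cent (yed v)
  have yeR : ∀ v, P.Rigid (ye v) := fun v => P.rigid_nine h3 hS (cq_mem _) (cq_mem _)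
  have ye2 : ∀ v, ye v * ye v = 1 := fun v => by
    have key : ∀ v : E9, ((cq v.toAdd.1).mul (cq v.toAdd.1)).det.mul
        ((cq v.toAdd.2).mul (cq v.toAdd.2)).det = .o ∧
        Pm ((cq v.toAdd.1).mul (cq v.toAdd.1)) qE ((cq v.toAdd.2).mul (cq v.toAdd.2)) qE := by
      decide +kernel
    show P.D _ _ * P.D _ _ = 1
    rw [P.D_mul (yed v) (yed v), ← P.D_one]
    exact P.D_eq (key v).1 (by decide) (key v).2
  have yeinj : Function.Injective ye := fun u v h => by
    have key : ∀ u v : E9, Pm (cq u.toAdd.1) (cq v.toAdd.1) (cq u.toAdd.2) (cq v.toAdd.2) →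
        u = v := by decide +kernel
    exact key u v (P.pm_of_eq (yed u) (yed v) h)
  -- the conjugates
  let Φ : (X ⧸ M) × E9 → X := fun p => p.1.out * ⟨ye p.2, yeX p.2⟩ * p.1.out⁻¹
  have hΦ : ∀ p, ((Φ p : X) : G) = (p.1.out : G) * ye p.2 * ((p.1.out : X) : G)⁻¹ := fun p => rfl
  have Φ2 : ∀ p, ((Φ p : X) : G) * Φ p = 1 := fun p => by
    rw [hΦ]
    calc (p.1.out : G) * ye p.2 * (p.1.out : G)⁻¹ * ((p.1.out : G) * ye p.2 * (p.1.out : G)⁻¹)
        = (p.1.out : G) * (ye p.2 * ye p.2) * (p.1.out : G)⁻¹ := by group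
      _ = 1 := by rw [ye2, mul_one, mul_inv_cancel]
  have Φinv : ∀ p, ((Φ p : X) : G)⁻¹ = Φ p := fun p => inv_eq_of_mul_eq_one_left (Φ2 p)
  have mkout : ∀ q : X ⧸ M, ((q.out : X) : X ⧸ M) = q := fun q => QuotientGroup.out_eq' q
  have Φinj : Function.Injective Φ := by
    rintro ⟨q, u⟩ ⟨q', v⟩ h
    have h' := congrArg (fun z : X => (z : G)) h
    simp only [hΦ] at h'
    set a := ((q.out : X) : G) with ha
    set a' := ((q'.out : X) : G) with ha'
    have hh : a'⁻¹ * a ∈ P.f.range := yeR u _ (mul_mem (inv_mem q'.out.2) q.out.2) (by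
      have e : a'⁻¹ * a * ye u * (a'⁻¹ * a)⁻¹ = ye v := by
        calc a'⁻¹ * a * ye u * (a'⁻¹ * a)⁻¹ = a'⁻¹ * (a * ye u * a⁻¹) * a' := by group
          _ = a'⁻¹ * (a' * ye v * a'⁻¹) * a' := by rw [h']
          _ = ye v := by group
      rw [e]; exact ⟨_, rfl⟩)
    have hq : q' = q := by
      rw [← mkout q, ← mkout q']
      exact QuotientGroup.eq.2 (mem_subgroupOf.2 (by simpa using hh))
    subst hq
    rw [ha, ha'] at h'
    exact Prod.ext rfl (yeinj (mul_left_cancel (mul_right_cancel h')))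
  -- pigeons
  set q₀ : X ⧸ M := ((1 : X) : X ⧸ M) with hq₀
  set t : Finset (X ⧸ M) := Finset.univ.erase q₀ with ht
  set s : Finset ((X ⧸ M) × E9) := t ×ˢ Finset.univ with hs
  have hmaps : ∀ p ∈ s, ((Φ p : X) : X ⧸ M) ∈ t := by
    intro p hp
    rw [hs, Finset.mem_product, ht, Finset.mem_erase] at hp
    refine Finset.mem_erase.2 ⟨fun e => hp.1.1 ?_, Finset.mem_univ _⟩
    have h1 := mem_subgroupOf.1 (QuotientGroup.eq.1 e.symm)
    simp only [inv_one, one_mul] at h1
    have h2 := yeR p.2 _ p.1.out.2 (hΦ p ▸ h1)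
    rw [← mkout p.1, hq₀]
    exact QuotientGroup.eq.2 (mem_subgroupOf.2 (by simpa using h2))
  have htne : t.Nonempty := ⟨((⟨x₀, hx₀⟩ : X) : X ⧸ M), Finset.mem_erase.2 ⟨fun e => hx₀H (by
    have := mem_subgroupOf.1 (QuotientGroup.eq.1 e)
    simpa using this), Finset.mem_univ _⟩⟩
  obtain ⟨c, hc, hfib⟩ := Finset.exists_le_card_fiber_of_mul_le_card_of_maps_to hmaps htne
    (n := 9) (le_of_eq (by
      rw [hs, Finset.card_product, Finset.card_univ]
      rw [show Fintype.card E9 = 9 by decide]))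
  set S := s.filter (fun p => ((Φ p : X) : X ⧸ M) = c) with hSdef
  have hnot : ∀ p ∈ S, ((Φ p : X) : G) ∉ P.f.range := by
    intro p hp h
    rw [hSdef, Finset.mem_filter] at hp
    refine (Finset.mem_erase.1 hc).1 ?_
    rw [← hp.2, hq₀]
    exact QuotientGroup.eq.2 (mem_subgroupOf.2 (by simpa using inv_mem h))
  have hprod : ∀ p ∈ S, ∀ p' ∈ S, ((Φ p : X) : G) * Φ p' ∈ P.f.range := by
    intro p hp p' hp'
    rw [hSdef, Finset.mem_filter] at hp hp'
    have h := mem_subgroupOf.1 (QuotientGroup.eq.1 (hp.2.trans hp'.2.symm))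
    simpa [Φinv] using h
  have hrig : ∀ p ∈ S, ∀ p' ∈ S, ¬ P.Rigid (((Φ p : X) : G) * Φ p') := by
    intro p hp p' hp' h
    refine hnot p hp (h _ (Φ p).2 ?_)
    have e : ((Φ p : X) : G) * (((Φ p : X) : G) * Φ p') * ((Φ p : X) : G)⁻¹
        = ((Φ p' : X) : G) * Φ p := by
      rw [← mul_assoc ((Φ p : X) : G) ((Φ p : X) : G), Φ2, one_mul, Φinv]
    rw [e]
    exact hprod p' hp' p hp
  obtain ⟨p₀, hp₀⟩ : S.Nonempty := Finset.card_pos.1 (lt_of_lt_of_le (by norm_num) hfib)
  have htyp : ∀ p, ∃ b, p ∈ S → P.Typ b (((Φ p₀ : X) : G) * Φ p) := fun p => by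
    by_cases hp : p ∈ S
    · obtain ⟨b, hb⟩ := P.exists_typ (mul_mem (Φ p₀).2 (Φ p).2) (hprod p₀ hp₀ p hp)
      exact ⟨b, fun _ => hb⟩
    · exact ⟨(true, true), fun h => absurd h hp⟩
  choose τ hτ using htyp
  obtain ⟨b, -, hb⟩ := Finset.exists_lt_card_fiber_of_mul_lt_card_of_maps_to (s := S)
    (t := (Finset.univ : Finset (Bool × Bool))) (f := τ) (n := 2) (fun _ _ => Finset.mem_univ _)
    (lt_of_lt_of_le (by decide) hfib)
  obtain ⟨p₁, p₂, p₃, h1, h2, h3', h12, h13, h23⟩ := Finset.two_lt_card_iff.1 hb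
  rw [Finset.mem_filter] at h1 h2 h3'
  have pair : ∀ p, p ∈ S ∧ τ p = b → p₁ ≠ p → ((Φ p : X) : G) = Φ p₁ * P.f t4 := by
    intro p hp hne'
    obtain ⟨C, E, hC, hE, hCE⟩ := P.special_of_typ (mul_mem (Φ p₀).2 (Φ p₁).2)
      (mul_mem (Φ p₀).2 (Φ p).2) (h1.2 ▸ hτ p₁ h1.1) (hp.2 ▸ hτ p hp.1)
    rw [mul_inv_rev, mul_assoc, inv_mul_cancel_left, Φinv] at hCE
    rcases P.rigid_special h3 hS hC hE with e | e | e
    · refine absurd (Φinj (Subtype.ext ?_)) hne'
      rw [e, mul_eq_one_iff_inv_eq, Φinv] at hCE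
      exact hCE
    · rw [e] at hCE
      calc ((Φ p : X) : G) = ((Φ p₁ : X) : G) * (((Φ p₁ : X) : G) * Φ p) := by
            rw [← mul_assoc, Φ2, one_mul]
        _ = _ := by rw [hCE]
    · exact absurd (hCE ▸ e) (hrig p₁ h1.1 p hp.1)
  exact h23 (Φinj (Subtype.ext ((pair p₂ h2 h12).trans (pair p₃ h3' h13).symm)))

end Hyp

end Cfsg.Agent.L43Three.CaseB
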