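import Cfsg.Agent.Lib.L43Three.CaseB.CentY
import Mathlib.Data.Fintype.Prod

/-!
S3373, case B: two by two blocks, and the preimage of the centraliser of the diagonal involution.
-/

set_option autoImplicit false
set_option linter.style.haveILetI false
set_option linter.unusedSectionVars false
set_option linter.constructorNameAsVariable false
set_option maxHeartbeats 400000
set_option maxRecDepth 20000

namespace Cfsg.Agent.L43Three.CaseB

open Subgroup

/-- Square matrices of size two. -/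
structure M2 : Type where
  a : F3
  b : F3
  c : F3
  d : F3
deriving DecidableEq, Fintype

namespace M2

/-- The product. -/
def mul (x y : M2) : M2 :=
  ⟨(x.a.mul y.a).add (x.b.mul y.c), (x.a.mul y.b).add (x.b.mul y.d),
    (x.c.mul y.a).add (x.d.mul y.c), (x.c.mul y.b).add (x.d.mul y.d)⟩

/-- The negative. -/
def neg (x : M2) : M2 := ⟨x.a.neg, x.b.neg, x.c.neg, x.d.neg⟩

/-- The identity. -/
def one : M2 := ⟨.o, .z, .z, .o⟩

/-- The determinant. -/
def det (x : M2) : F3 := M4.det2 x.a x.b x.c x.d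

/-- The power. -/
def pow (x : M2) : ℕ → M2
  | 0 => one
  | n + 1 => mul (pow x n) x

/-- The zero matrix. -/
def zero : M2 := ⟨.z, .z, .z, .z⟩

end M2

/-- The quaternion `i`. -/
def qI : M2 := ⟨.z, .d, .o, .z⟩
/-- The quaternion `j`. -/
def qJ : M2 := ⟨.o, .o, .o, .d⟩
/-- The quaternion `i * j`. -/
def qK : M2 := ⟨.d, .o, .o, .o⟩
/-- The unipotent element normalising the quaternion group. -/
def qU : M2 := ⟨.o, .o, .z, .o⟩
/-- The identity of size two. -/
abbrev qE : M2 := M2.one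
/-- Minus the identity of size two. -/
abbrev qN : M2 := M2.neg M2.one

/-- The block diagonal matrix. -/
def dg (A B : M2) : M4 :=
  ⟨⟨A.a, A.b, .z, .z⟩, ⟨A.c, A.d, .z, .z⟩, ⟨.z, .z, B.a, B.b⟩, ⟨.z, .z, B.c, B.d⟩⟩

/-- The block antidiagonal matrix. -/
def ad (A B : M2) : M4 :=
  ⟨⟨.z, .z, A.a, A.b⟩, ⟨.z, .z, A.c, A.d⟩, ⟨B.a, B.b, .z, .z⟩, ⟨B.c, B.d, .z, .z⟩⟩

theorem dg_mul_dg (A B C D : M2) : M4.mul (dg A B) (dg C D) = dg (A.mul C) (B.mul D) := by
  simp [M4.mul, M4.rmul, dg, M2.mul, R4.add, F3.add_z, F3.z_add,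
    R4.smul_eq, F3.mul_z, F3.z_mul]

theorem dg_mul_ad (A B C D : M2) : M4.mul (dg A B) (ad C D) = ad (A.mul C) (B.mul D) := by
  simp [M4.mul, M4.rmul, dg, ad, M2.mul, R4.add, F3.add_z, F3.z_add,
    R4.smul_eq, F3.mul_z, F3.z_mul]

theorem ad_mul_dg (A B C D : M2) : M4.mul (ad A B) (dg C D) = ad (A.mul D) (B.mul C) := by
  simp [M4.mul, M4.rmul, dg, ad, M2.mul, R4.add, F3.add_z, F3.z_add,
    R4.smul_eq, F3.mul_z, F3.z_mul]

theorem ad_mul_ad (A B C D : M2) : M4.mul (ad A B) (ad C D) = dg (A.mul D) (B.mul C) := by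
  simp [M4.mul, M4.rmul, dg, ad, M2.mul, R4.add, F3.add_z, F3.z_add,
    R4.smul_eq, F3.mul_z, F3.z_mul]

theorem neg_dg (A B : M2) : M4.neg (dg A B) = dg A.neg B.neg := by
  simp [M4.neg, dg, M2.neg, R4.smul, F3.neg]

theorem neg_ad (A B : M2) : M4.neg (ad A B) = ad A.neg B.neg := by
  simp [M4.neg, ad, M2.neg, R4.smul, F3.neg]

theorem tM_eq : tM = dg qN qE := rfl

theorem one_eq : M4.one = dg qE qE := rfl

theorem dg_injective {A B C D : M2} (h : dg A B = dg C D) : A = C ∧ B = D := by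
  obtain ⟨a, b, c, d⟩ := A
  obtain ⟨p, q, r, s⟩ := B
  obtain ⟨a', b', c', d'⟩ := C
  obtain ⟨p', q', r', s'⟩ := D
  simp [dg] at h
  obtain ⟨⟨rfl, rfl⟩, ⟨rfl, rfl⟩, ⟨rfl, rfl⟩, rfl, rfl⟩ := h
  exact ⟨rfl, rfl⟩

theorem ad_injective {A B C D : M2} (h : ad A B = ad C D) : A = C ∧ B = D := by
  obtain ⟨a, b, c, d⟩ := A
  obtain ⟨p, q, r, s⟩ := B
  obtain ⟨a', b', c', d'⟩ := C
  obtain ⟨p', q', r', s'⟩ := D
  simp [ad] at h
  obtain ⟨⟨rfl, rfl⟩, ⟨rfl, rfl⟩, ⟨rfl, rfl⟩, rfl, rfl⟩ := h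
  exact ⟨rfl, rfl⟩

theorem det_dg : ∀ A B : M2, (dg A B).det = A.det.mul B.det := by decide +kernel

theorem det_ad : ∀ A B : M2, (ad A B).det = A.det.mul B.det := by decide +kernel

theorem F3.neg_self : ∀ a : F3, a = a.neg → a = .z := by decide
theorem F3.self_neg : ∀ a : F3, a.neg = a → a = .z := by decide
theorem F3.d_mul : ∀ a : F3, F3.mul .d a = a.neg := by decide
theorem F3.mul_d : ∀ a : F3, a.mul .d = a.neg := by decide

/-- A matrix commuting with `tM` up to sign is block diagonal or block antidiagonal. -/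
theorem blocks_of_tM {m : M4}
    (h : M4.mul m tM = M4.mul tM m ∨ M4.mul m tM = M4.neg (M4.mul tM m)) :
    ∃ A B, m = dg A B ∨ m = ad A B := by
  obtain ⟨⟨a, b, c, d⟩, ⟨p, q, r, s⟩, ⟨t, u, v, w⟩, ⟨i, j, k, l⟩⟩ := m
  simp only [M4.mul, M4.neg, M4.rmul, tM, R4.smul_eq, R4.add, F3.mul_z, F3.mul_o, F3.z_mul,
    F3.o_mul, F3.add_z, F3.z_add, F3.d_mul, F3.mul_d, M4.mk.injEq, R4.mk.injEq] at h
  have h1 := F3.neg_self
  have h2 := F3.self_neg
  have h3 : ∀ x : F3, x.neg.neg = x := by decide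
  rcases h with h | h
  · obtain ⟨⟨-, -, e1, e2⟩, ⟨-, -, e3, e4⟩, ⟨e5, e6, -, -⟩, ⟨e7, e8, -, -⟩⟩ := h
    obtain rfl := h1 _ e1
    obtain rfl := h1 _ e2
    obtain rfl := h1 _ e3
    obtain rfl := h1 _ e4
    obtain rfl := h2 _ e5
    obtain rfl := h2 _ e6
    obtain rfl := h2 _ e7
    obtain rfl := h2 _ e8
    exact ⟨⟨a, b, p, q⟩, ⟨v, w, k, l⟩, Or.inl rfl⟩
  · simp only [h3] at h
    obtain ⟨⟨e1, e2, -, -⟩, ⟨e3, e4, -, -⟩, ⟨-, -, e5, e6⟩, ⟨-, -, e7, e8⟩⟩ := h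
    obtain rfl := h2 _ e1
    obtain rfl := h2 _ e2
    obtain rfl := h2 _ e3
    obtain rfl := h2 _ e4
    obtain rfl := h1 _ e5
    obtain rfl := h1 _ e6
    obtain rfl := h1 _ e7
    obtain rfl := h1 _ e8
    exact ⟨⟨c, d, r, s⟩, ⟨t, u, i, j⟩, Or.inr rfl⟩

/-- The element with given code, if there is one. -/
def mkS (m : M4) : S4 := if h : m.det = .o then mk4 m h else 1

theorem code_mkS {m : M4} (h : m.det = .o) : code (mkS m) = m := by
  rw [mkS, dif_pos h, code_mk4]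

theorem eq_mkS {x : S4} {m : M4} (e : code x = m) : x = mkS m :=
  code_injective (by rw [e, code_mkS (e ▸ det_code x)])

theorem t4_eq : t4 = mkS (dg qN qE) := eq_mkS (by rw [code_t4, tM_eq])

theorem mkS_mul {a b : M4} (ha : a.det = .o) (hb : b.det = .o) :
    mkS a * mkS b = mkS (M4.mul a b) :=
  eq_mkS (by rw [code_mul, code_mkS ha, code_mkS hb])

namespace Hyp

variable {G : Type*} [Group G] [Finite G] (P : Hyp G)
include P

theorem code_of_eq {x y : S4} (h : P.f x = P.f y) : code x = code y ∨ code x = M4.neg (code y) := by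
  rcases P.eq_iff.1 h with e | e
  · exact Or.inl (congrArg code e)
  · exact Or.inr (by rw [e, code_neg])

theorem eq_of_code {x y : S4} (h : code x = code y ∨ code x = M4.neg (code y)) : P.f x = P.f y :=
  P.eq_iff.2 (h.imp (fun e => code_injective e) fun e => code_injective (by rw [e, code_neg]))

/-- The part of the image in the centraliser of the involution. -/
theorem blocks_of_mem {g : G} (hX : g ∈ centralizer ({P.f t4} : Set G)) (hH : g ∈ P.f.range) :
    ∃ A B, (∃ x, P.f x = g ∧ code x = dg A B ∧ A.det.mul B.det = .o) ∨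
      (∃ x, P.f x = g ∧ code x = ad A B ∧ A.det.mul B.det = .o) := by
  obtain ⟨x, rfl⟩ := hH
  have h := P.code_of_eq (x := x * t4) (y := t4 * x)
    (by rw [map_mul, map_mul, mem_centralizer_singleton_iff.1 hX])
  rw [code_mul, code_mul, code_t4] at h
  obtain ⟨A, B, e | e⟩ := blocks_of_tM h
  · exact ⟨A, B, Or.inl ⟨x, rfl, e, by rw [← det_dg, ← e]; exact det_code x⟩⟩
  · exact ⟨A, B, Or.inr ⟨x, rfl, e, by rw [← det_ad, ← e]; exact det_code x⟩⟩

end Hyp

end Cfsg.Agent.L43Three.CaseB
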