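import Cfsg.Agent.Lib.L43Three.CaseB.Invol.One

/-!
S3373, case B: the normaliser of a cyclic subgroup of order four.
-/

set_option autoImplicit false
set_option linter.style.haveILetI false
set_option linter.unusedSectionVars false
set_option maxHeartbeats 1000000
set_option maxRecDepth 20000
set_option synthInstance.maxSize 1000

namespace Cfsg.Agent.L43Three.CaseB

open Subgroup

namespace Hyp

universe u

variable {G : Type u} [Group G] [Finite G] (P : Hyp G)
include P

theorem det_pow_i : ∀ k : Fin 4, (qI.pow k).det.mul qE.det = .o := by decide +kernel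

theorem t_ne_one : P.f t4 ≠ 1 :=
  P.ne_one_of_proper (x := t4) (by rw [code_t4]; decide +kernel)

/-- The normaliser of the cyclic subgroup fixes the involution. -/
theorem norm_i_le {g : G} (hg : g ∈ normalizer (closure ({P.D qI qE} : Set G) : Set G)) :
    g ∈ centralizer ({P.f t4} : Set G) := by
  obtain ⟨k, hk⟩ := P.mem_cyclic_four ((mem_normalizer_iff.1 hg _).1 (subset_closure rfl))
  have key : ∀ k : Fin 4, ((qI.pow k).mul (qI.pow k)).det.mul (qE.mul qE).det = .o ∧
      (Pm ((qI.pow k).mul (qI.pow k)) qE (qE.mul qE) qE ∨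
        Pm ((qI.pow k).mul (qI.pow k)) qN (qE.mul qE) qE) := by decide +kernel
  obtain ⟨hd, hc⟩ := key k
  have h2 : g * P.f t4 * g⁻¹ = P.D ((qI.pow k).mul (qI.pow k)) (qE.mul qE) := by
    rw [← P.sq_one, ← P.D_mul (P.det_pow_i k) (P.det_pow_i k), ← hk]; group
  rcases hc with e | e
  · rw [P.D_eq hd (by decide) e, P.D_one, mul_inv_eq_one] at h2
    exact absurd (mul_left_cancel (h2.trans (mul_one g).symm)) P.t_ne_one
  · rw [P.D_eq hd (by decide) e, P.D_t, mul_inv_eq_iff_eq_mul] at h2
    exact mem_centralizer_singleton_iff.2 h2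

theorem sq_two : P.D qE qI * P.D qE qI = P.f t4 ∧ P.D qE qJ * P.D qE qJ = P.f t4 := by
  constructor <;>
  · rw [P.D_mul (by decide) (by decide), ← P.D_t]
    exact P.D_eq (by decide) (by decide) (by decide)

/-- The block elements normalising the cyclic subgroup. -/
theorem mem_norm_i {A B : M2} (hd : A.det.mul B.det = .o)
    (h : Pm (A.mul qI) (qI.mul A) (B.mul qE) (qE.mul B) ∨
      Pm (A.mul qI) ((qI.pow 3).mul A) (B.mul qE) (qE.mul B)) :
    P.D A B ∈ normalizer (closure ({P.D qI qE} : Set G) : Set G) := by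
  refine mem_normalizer_closure ?_
  rintro _ rfl
  rcases h with h | h
  · rw [P.conj_of hd (by decide) (by decide) h]; exact subset_closure rfl
  · rw [P.conj_of hd (by decide) (by decide +kernel) h]
    have e : P.D (qI.pow 3) qE = P.D qI qE * P.D qI qE * P.D qI qE := by
      rw [P.D_mul (by decide) (by decide), P.D_mul (by decide +kernel) (by decide)]; rfl
    rw [e]
    exact mul_mem (mul_mem (subset_closure rfl) (subset_closure rfl)) (subset_closure rfl)

/-- The normaliser of a cyclic subgroup of order four in a quaternion factor lies in the image. -/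
theorem normalizer_i (h3 : P.CentThree) (hS : P.ConjThree) :
    normalizer (closure ({P.D qI qE} : Set G) : Set G) ≤ P.f.range := by
  set K : Subgroup G := closure ({P.D qI qE} : Set G) with hKdef
  set N : Subgroup G := normalizer (K : Set G) with hNdef
  have hKQ : K ≤ closure P.Q1 := closure_mono fun x hx => Or.inl hx
  have mI : P.D qI qE ∈ K := subset_closure rfl
  have mJ : P.D qJ qE ∈ closure P.Q1 := subset_closure (Or.inr rfl)
  have hKH : K ≤ P.f.range := by
    rw [hKdef, closure_le]; rintro _ rfl; exact ⟨_, rfl⟩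
  have hjN : P.D qJ qE ∈ N := P.mem_norm_i (by decide) (Or.inr (by decide +kernel))
  have hjj : P.D qJ qE * P.D qJ qE ∈ K := by
    have e : P.D qJ qE * P.D qJ qE = P.D qI qE * P.D qI qE := by
      rw [P.D_mul (by decide) (by decide), P.D_mul (by decide) (by decide)]; rfl
    rw [e]; exact mul_mem mI mI
  have hjK : P.D qJ qE ∉ K := fun h => by
    obtain ⟨k, hk⟩ := P.mem_cyclic_four h
    have key : ∀ k : Fin 4, ¬ Pm qJ (qI.pow k) qE qE := by decide +kernel
    exact key k (P.pm_of_eq (by decide) (P.det_pow_i k) hk)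
  have normQ1 : ∀ y ∈ N, y * P.D qJ qE * y⁻¹ * (P.D qJ qE)⁻¹ ∈ K → y ∈ P.f.range := by
    intro y hy hc
    refine P.normalizer_q1 h3 hS (mem_normalizer_closure ?_)
    rintro _ (rfl | rfl)
    · exact hKQ ((mem_normalizer_iff.1 hy _).1 mI)
    · simpa using mul_mem (hKQ hc) mJ
  refine le_of_isolated (j := P.D qJ qE) le_rfl hKH hjN hjj hjK ?_ normQ1 ?_
  · -- isolation
    intro g hg hc
    set y := g * P.D qJ qE * g⁻¹ with hy
    have hyN : y ∈ N := mul_mem (mul_mem hg hjN) (inv_mem hg)
    have hyH : y ∈ P.f.range := normQ1 y hyN hc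
    have hy2 : y * y = P.f t4 := by
      have e : P.D qJ qE * P.D qJ qE = P.f t4 := by
        rw [P.D_mul (by decide) (by decide), ← P.D_t]; rfl
      calc y * y = g * (P.D qJ qE * P.D qJ qE) * g⁻¹ := by rw [hy]; group
        _ = g * P.f t4 * g⁻¹ := by rw [e]
        _ = P.f t4 := by
          rw [mem_centralizer_singleton_iff.1 (P.norm_i_le hg)]; group
    have hyi : y * P.D qI qE * y⁻¹ = P.D (qI.pow 3) qE := by
      obtain ⟨m, hm⟩ := P.mem_cyclic_four (g := g⁻¹ * P.D qI qE * g) (by
        have := (mem_normalizer_iff.1 (inv_mem hg) _).1 mI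
        rwa [inv_inv] at this)
      have key : ∀ m : Fin 4, (qI.pow m).det.mul qE.det = .o ∧
          ((qI.pow m).pow 3).det.mul qE.det = .o ∧
          Pm (qJ.mul (qI.pow m)) (((qI.pow m).pow 3).mul qJ) (qE.mul qE) (qE.mul qE) := by
        decide +kernel
      obtain ⟨hd0, hd3, hp⟩ := key m
      have e1 : P.D qJ qE * (g⁻¹ * P.D qI qE * g) * (P.D qJ qE)⁻¹ =
          g⁻¹ * P.D qI qE * g * (g⁻¹ * P.D qI qE * g) * (g⁻¹ * P.D qI qE * g) := by
        have hd2 : ∀ m : Fin 4, ((qI.pow m).mul (qI.pow m)).det.mul (qE.mul qE).det = .o ∧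
            (((qI.pow m).mul (qI.pow m)).mul (qI.pow m) = (qI.pow m).pow 3) := by decide +kernel
        rw [hm, P.conj_of (by decide) hd0 hd3 hp, P.D_mul hd0 hd0, P.D_mul (hd2 m).1 hd0,
          (hd2 m).2]
        rfl
      calc y * P.D qI qE * y⁻¹
          = g * (P.D qJ qE * (g⁻¹ * P.D qI qE * g) * (P.D qJ qE)⁻¹) * g⁻¹ := by rw [hy]; group
        _ = P.D qI qE * P.D qI qE * P.D qI qE := by rw [e1]; group
        _ = P.D (qI.pow 3) qE := by
          rw [P.D_mul (by decide) (by decide), P.D_mul (by decide +kernel) (by decide)]; rfl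
    obtain ⟨A, B, ⟨x, hx, hcx, hd⟩ | ⟨x, hx, hcx, hd⟩⟩ := P.blocks_of_mem (P.norm_i_le hyN) hyH
    · rw [← hx] at hy2 hyi
      have c1 := P.conj_diag hcx (by decide) (by decide +kernel) hyi
      have hxD : P.f x = P.D A B := congrArg P.f (eq_mkS hcx)
      rw [hxD, P.D_mul hd hd, ← P.D_t] at hy2
      have hmul : ∀ A B : M2, A.det.mul B.det = .o → (A.mul A).det.mul (B.mul B).det = .o := by
        decide +kernel
      have c2 := P.pm_of_eq (hmul A B hd) (by decide) hy2
      have key : ∀ A B : M2, A.det.mul B.det = .o →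
          Pm (A.mul qI) ((qI.pow 3).mul A) (B.mul qE) (qE.mul B) →
          Pm (A.mul A) qN (B.mul B) qE →
          ∃ k : Fin 4, Pm A ((qI.pow k).mul qJ) B (qE.mul qE) := by decide +kernel
      obtain ⟨k, hk⟩ := key A B hd c1 c2
      have hdk : ((qI.pow k).mul qJ).det.mul (qE.mul qE).det = .o :=
        (by decide +kernel : ∀ k : Fin 4, ((qI.pow k).mul qJ).det.mul (qE.mul qE).det = .o) k
      rw [← hx, hxD, P.D_eq hd hdk hk, ← P.D_mul (P.det_pow_i k) (by decide), mul_inv_cancel_right]
      rw [show P.D (qI.pow k) qE = P.D qI qE ^ (k : ℕ) from ?_]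
      · exact pow_mem mI _
      · revert k
        intro k _ _
        fin_cases k
        · exact P.D_one.trans (pow_zero _).symm
        · exact (P.D_eq (by decide +kernel) (by decide) (by decide +kernel)).trans (pow_one _).symm
        · rw [pow_two, P.D_mul (by decide) (by decide)]
          exact P.D_eq (by decide +kernel) (by decide) (by decide +kernel)
        · rw [pow_three, P.D_mul (by decide) (by decide), P.D_mul (by decide) (by decide)]
          exact P.D_eq (by decide +kernel) (by decide) (by decide +kernel)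
    · rw [← hx] at hyi
      have c1 := P.conj_anti hcx (by decide) (by decide +kernel) hyi
      have key : ∀ A B : M2, A.det.mul B.det = .o →
          ¬ Pm (A.mul qE) ((qI.pow 3).mul A) (B.mul qI) (qE.mul B) := by decide +kernel
      exact absurd c1 (key A B hd)
  · -- the odd core
    intro Q _ _ π hker hsur O hn hodd
    have hrel : ∀ x y : N, (x : G) * (y : G)⁻¹ ∈ K → π x = π y := fun x y h => by
      rw [← mul_inv_eq_one, ← map_inv, ← map_mul]; exact (hker _).2 h
    have hrel' : ∀ x y : N, π x = π y → (x : G) * (y : G)⁻¹ ∈ K := fun x y h =>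
      (hker (x * y⁻¹)).1 (by rw [map_mul, map_inv, h, mul_inv_cancel])
    have hcm : ∀ x y : N, π x * π y = π y * π x →
        (x : G) * y * (x : G)⁻¹ * (y : G)⁻¹ ∈ K := fun x y h => by
      have := hrel' (x * y) (y * x) (by rw [map_mul, map_mul, h])
      simpa [mul_assoc] using this
    -- elements of the image in the odd core
    have key0 : ∀ x : N, (x : G) ∈ P.f.range → π x ∈ O → π x = 1 := by
      intro x hxH hxO
      obtain ⟨k, hk⟩ := P.mem_cyclic_four ((mem_normalizer_iff.1 x.2 _).1 mI)
      obtain ⟨A, B, ⟨y, hy, hcy, hd⟩ | ⟨y, hy, hcy, hd⟩⟩ :=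
        P.blocks_of_mem (P.norm_i_le x.2) hxH
      · rw [← hy] at hk
        have c0 := P.conj_diag hcy (by decide) (P.det_pow_i k) hk
        have hyD : P.f y = P.D A B := congrArg P.f (eq_mkS hcy)
        have comm : ∀ C ∈ [qI, qJ], ∃ m : Fin 4,
            Pm (A.mul qE) ((qI.pow m).mul A) (B.mul C) (C.mul B) := by
          intro C hC
          have k1 : ∀ A B : M2, A.det.mul B.det = .o → ∀ C ∈ [qI, qJ],
              ∃ E ∈ [qI, qI.neg, qJ, qJ.neg, qK, qK.neg],
                Pm (A.mul qE) (qE.mul A) (B.mul C) (E.mul B) := by decide +kernel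
          obtain ⟨E, hE, hEp⟩ := k1 A B hd C hC
          have k2 : ∀ C ∈ [qI, qJ], ∀ E ∈ [qI, qI.neg, qJ, qJ.neg, qK, qK.neg],
              qE.det.mul C.det = .o ∧ qE.det.mul E.det = .o ∧
              qE.det.mul (C.mul (C.mul C)).det = .o ∧ Pm (qE.mul qE) qE (C.mul (C.mul (C.mul C))) qE ∧
              qE.det.mul (E.mul (C.mul (C.mul C))).det = .o ∧
              (let F := E.mul (C.mul (C.mul C)); (qE.mul qE).det.mul (F.mul F).det = .o ∧
                ((qE.mul qE).mul (qE.mul qE)).det.mul ((F.mul F).mul (F.mul F)).det = .o ∧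
                Pm (qE.mul qE) qE ((F.mul F).mul (F.mul F)) qE) := by decide +kernel
          obtain ⟨hdC, hdE, hdC3, hC4, hdF, hdF2, hdF4, hF4⟩ := k2 C hC E hE
          have hvN : P.D qE C ∈ N := P.mem_norm_i hdC (Or.inl (Or.inl ⟨(by decide +kernel : qE.mul qI = qI.mul qE), (by decide +kernel : ∀ C : M2, C.mul qE = qE.mul C) C⟩))
          have hconj : (x : G) * P.D qE C * (x : G)⁻¹ = P.D qE E := by
            rw [← hy, hyD]; exact P.conj_of hd hdC hdE hEp
          set c : N := x * ⟨_, hvN⟩ * x⁻¹ * (⟨_, hvN⟩ : N)⁻¹ with hc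
          have hval : (c : G) = P.D qE (E.mul (C.mul (C.mul C))) := by
            rw [hc]
            push_cast
            rw [hconj, P.D_mul_inv (C := qE) (E := C.mul (C.mul C)) hdC hdC3 hC4,
              P.D_mul hdE hdC3]
            rfl
          have hcO : π c ∈ O := by
            rw [hc, map_mul, map_inv, map_mul, map_mul, map_inv, mul_assoc (π x), mul_assoc (π x)]
            exact mul_mem hxO (hn.conj_mem _ (inv_mem hxO) _)
          have hc4 : π c * π c * (π c * π c) = 1 := by
            rw [← map_mul, ← map_mul, hker]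
            push_cast
            rw [hval, P.D_mul hdF hdF, P.D_mul hdF2 hdF2,
              P.D_eq (C := qE) (E := qE) hdF4 (by decide) hF4, P.D_one]
            exact one_mem _
          have hc1 : π c = 1 := eq_one_of_sq hodd hcO (eq_one_of_sq hodd (mul_mem hcO hcO) hc4)
          obtain ⟨m, hm⟩ := P.mem_cyclic_four ((hker c).1 hc1)
          refine ⟨m, ?_⟩
          refine P.conj_diag (x := y) (E := qI.pow m) (F := C) hcy hdC ?_ ?_
          · exact (by decide +kernel :
              ∀ C ∈ [qI, qJ], ∀ m : Fin 4, (qI.pow m).det.mul C.det = .o) C hC m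
          · have e : (x : G) * P.D qE C * (x : G)⁻¹ = (c : G) * P.D qE C := by
              rw [hc]; push_cast; group
            rw [hy, e, hm, P.D_mul (P.det_pow_i m) hdC]
            exact congrArg₂ (fun a b => P.D a b)
              ((by decide +kernel : ∀ a : M2, a.mul qE = a) _)
              ((by decide +kernel : ∀ a : M2, qE.mul a = a) _)
        obtain ⟨m1, hm1⟩ := comm qI (by simp)
        obtain ⟨m2, hm2⟩ := comm qJ (by simp)
        have k3 : ∀ A B : M2, A.det.mul B.det = .o →
            (∃ k : Fin 4, Pm (A.mul qI) ((qI.pow k).mul A) (B.mul qE) (qE.mul B)) →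
            (∃ m : Fin 4, Pm (A.mul qE) ((qI.pow m).mul A) (B.mul qI) (qI.mul B)) →
            (∃ m : Fin 4, Pm (A.mul qE) ((qI.pow m).mul A) (B.mul qJ) (qJ.mul B)) →
            (A.mul A).det.mul (B.mul B).det = .o ∧
            ((A.mul A).mul (A.mul A)).det.mul ((B.mul B).mul (B.mul B)).det = .o ∧
            Pm ((A.mul A).mul (A.mul A)) qE ((B.mul B).mul (B.mul B)) qE := by decide +kernel
        obtain ⟨hd2, hd4, h4⟩ := k3 A B hd ⟨k, c0⟩ ⟨m1, hm1⟩ ⟨m2, hm2⟩
        have hx4 : π x * π x * (π x * π x) = 1 := by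
          rw [← map_mul, ← map_mul, hker]
          push_cast
          rw [← hy, hyD, P.D_mul hd hd, P.D_mul hd2 hd2, P.D_eq hd4 (by decide) h4, P.D_one]
          exact one_mem _
        exact eq_one_of_sq hodd hxO (eq_one_of_sq hodd (mul_mem hxO hxO) hx4)
      · rw [← hy] at hk
        have c0 := P.conj_anti hcy (by decide) (P.det_pow_i k) hk
        have key : ∀ A B : M2, A.det.mul B.det = .o → ∀ k : Fin 4,
            ¬ Pm (A.mul qE) ((qI.pow k).mul A) (B.mul qI) (qE.mul B) := by decide +kernel
        exact absurd c0 (key A B hd k)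
    have hmem : ∀ C : M2, C.det = .o → P.D qE C ∈ N := fun C hC =>
      P.mem_norm_i (by rw [show qE.det = F3.o from rfl, hC]; rfl) (Or.inl (Or.inl
        ⟨(by decide +kernel : qE.mul qI = qI.mul qE), (by decide +kernel : ∀ C : M2, C.mul qE = qE.mul C) C⟩))
    set j' : N := ⟨_, hjN⟩ with hj'
    set a' : N := ⟨_, hmem qI rfl⟩ with ha'
    set b' : N := ⟨_, hmem qJ rfl⟩ with hb'
    set w' : N := ⟨_, hmem qU rfl⟩ with hw'
    have mT : P.f t4 ∈ K := by rw [← P.sq_one]; exact mul_mem mI mI
    have main : ∀ q ∈ O, q = 1 := eq_one_of_tetrahedral hn hodd (j := π j') (a := π a') (b := π b')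
      (w := π w')
      (by rw [← map_mul, hker]; exact hjj)
      (fun q hq h => by
        obtain ⟨x, rfl⟩ := hsur q
        exact key0 x (normQ1 x x.2 (hcm x j' h)) hq)
      (by rw [← map_mul, hker]; push_cast; rw [P.sq_two.1]; exact mT)
      (by rw [← map_mul, hker]; push_cast; rw [P.sq_two.2]; exact mT)
      (by
        rw [← map_mul, ← map_mul]
        refine hrel _ _ ?_
        push_cast
        rw [P.D_mul (by decide) (by decide), P.D_mul (by decide) (by decide),
          P.D_mul_inv (C := qN.mul qN) (E := (qJ.mul qI).mul ((qJ.mul qI).mul (qJ.mul qI)))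
            (by decide) (by decide +kernel) (by decide +kernel),
          P.D_mul (by decide) (by decide +kernel)]
        rw [P.D_eq (C := qN) (E := qE) (by decide +kernel) (by decide) (by decide +kernel), P.D_t]
        exact mT)
      (by
        rw [← map_mul, ← map_mul, hker]
        push_cast
        rw [P.D_mul (by decide) (by decide), P.D_mul (by decide +kernel) (by decide),
          P.D_eq (C := qE) (E := qE) (by decide +kernel) (by decide) (by decide +kernel), P.D_one]
        exact one_mem _)
      (by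
        rw [← map_inv, ← map_mul, ← map_mul]
        refine congrArg π (Subtype.ext ?_)
        push_cast
        exact P.conj_of (by decide) (by decide) (by decide) (by decide +kernel))
      (by
        rw [← map_inv, ← map_mul, ← map_mul, ← map_mul]
        refine congrArg π (Subtype.ext ?_)
        push_cast
        rw [P.conj_of (E := qE) (F := qK) (by decide) (by decide) (by decide) (by decide +kernel),
          P.D_mul (by decide) (by decide)]
        rfl)
      (fun q hq ha hb => by
        obtain ⟨x, rfl⟩ := hsur q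
        refine key0 x (P.normalizer_q2 h3 hS (mem_normalizer_closure ?_)) hq
        intro s hs
        obtain ⟨C, hC, rfl, hc⟩ : ∃ C ∈ [qI, qJ], s = P.D qE C ∧
            (x : G) * P.D qE C * (x : G)⁻¹ * (P.D qE C)⁻¹ ∈ K := by
          rcases hs with rfl | rfl
          · exact ⟨qI, by simp, rfl, hcm x a' ha⟩
          · exact ⟨qJ, by simp, rfl, hcm x b' hb⟩
        obtain ⟨m, hm⟩ := P.mem_cyclic_four hc
        rw [mul_inv_eq_iff_eq_mul] at hm
        have hdC : qE.det.mul C.det = .o :=
          (by decide +kernel : ∀ C ∈ [qI, qJ], qE.det.mul C.det = .o) C hC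
        rw [P.D_mul (P.det_pow_i m) hdC] at hm
        have ht : (x : G) * P.f t4 * (x : G)⁻¹ = P.f t4 := by
          rw [mem_centralizer_singleton_iff.1 (P.norm_i_le x.2)]; group
        have hsq : P.D qE C * P.D qE C = P.f t4 := by
          simp only [List.mem_cons, List.not_mem_nil, or_false] at hC
          rcases hC with rfl | rfl
          exacts [P.sq_two.1, P.sq_two.2]
        have h5 : (x : G) * P.D qE C * (x : G)⁻¹ * ((x : G) * P.D qE C * (x : G)⁻¹) = P.f t4 := by
          rw [show (x : G) * P.D qE C * (x : G)⁻¹ * ((x : G) * P.D qE C * (x : G)⁻¹) =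
            (x : G) * (P.D qE C * P.D qE C) * (x : G)⁻¹ by group, hsq, ht]
        have k4 : ∀ C ∈ [qI, qJ], ∀ m : Fin 4,
            let E := (qI.pow m).mul qE; let F := qE.mul C
            E.det.mul F.det = .o ∧ (E.mul E).det.mul (F.mul F).det = .o ∧
            (Pm (E.mul E) qN (F.mul F) qE → Pm E qE F C ∨ Pm E qE F (C.mul qN)) ∧
            qE.det.mul (C.mul qN).det = .o ∧ Pm qE qE (C.mul (C.mul C)) (C.mul qN) := by
          decide +kernel
        obtain ⟨hdEF, hdsq, himp, hdn, hn3⟩ := k4 C hC m
        rw [hm, P.D_mul hdEF hdEF, ← P.D_t] at h5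
        have mC : P.D qE C ∈ closure P.Q2 := by
          simp only [List.mem_cons, List.not_mem_nil, or_false] at hC
          rcases hC with rfl | rfl
          exacts [subset_closure (Or.inl rfl), subset_closure (Or.inr rfl)]
        rw [hm]
        rcases himp (P.pm_of_eq hdsq (by decide) h5) with e | e
        · rw [P.D_eq hdEF hdC e]; exact mC
        · rw [P.D_eq hdEF hdn e]
          have e3 : P.D qE (C.mul qN) = P.D qE C * (P.D qE C * P.D qE C) := by
            rw [P.D_mul hdC hdC, P.D_mul hdC ?_]
            · refine P.D_eq hdn ?_ ?_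
              · exact (by decide +kernel : ∀ C ∈ [qI, qJ],
                  (qE.mul (qE.mul qE)).det.mul (C.mul (C.mul C)).det = .o) C hC
              · exact (by decide +kernel : ∀ C ∈ [qI, qJ],
                  Pm qE (qE.mul (qE.mul qE)) (C.mul qN) (C.mul (C.mul C))) C hC
            · exact (by decide +kernel : ∀ C ∈ [qI, qJ],
                (qE.mul qE).det.mul (C.mul C).det = .o) C hC
          rw [e3]; exact mul_mem mC (mul_mem mC mC))
      (fun q hq h => by
        obtain ⟨x, rfl⟩ := hsur q
        obtain ⟨m, hm⟩ := P.mem_cyclic_four (hcm x w' h)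
        rw [mul_inv_eq_iff_eq_mul] at hm
        rw [P.D_mul (P.det_pow_i m) (by decide)] at hm
        obtain ⟨hw3, hw1, -, -⟩ := P.el_u_cube
        have hz3 : P.D qE qU ^ 3 = 1 := by rw [D, ← map_pow, hw3, map_one]
        have h7 : ((x : G) * P.D qE qU * (x : G)⁻¹) ^ 3 = 1 := by
          rw [conj_pow, hz3, mul_one, mul_inv_cancel]
        have k5 : ∀ m : Fin 4, let E := (qI.pow m).mul qE; let F := qE.mul qU
            E.det.mul F.det = .o ∧ (E.mul E).det.mul (F.mul F).det = .o ∧
            ((E.mul E).mul E).det.mul ((F.mul F).mul F).det = .o ∧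
            (Pm ((E.mul E).mul E) qE ((F.mul F).mul F) qE → Pm E qE F qU) := by decide +kernel
        obtain ⟨hdEF, hdsq, hd3, himp⟩ := k5 m
        rw [hm, pow_three, ← mul_assoc, P.D_mul hdEF hdEF, P.D_mul hdsq hdEF, ← P.D_one] at h7
        rw [P.D_eq hdEF (by decide) (himp (P.pm_of_eq hd3 (by decide) h7)),
          mul_inv_eq_iff_eq_mul] at hm
        exact key0 x (h3 _ hw3 hw1 (mem_centralizer_singleton_iff.2 hm)) hq)
    intro x hx
    exact hKH ((hker x).1 (main _ hx))

end Hyp

end Cfsg.Agent.L43Three.CaseB
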