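import Cfsg.Agent.Lib.L43Three.CaseB.Tools
import Cfsg.Agent.Lib.McLTwoA8.Isolated
import Mathlib.GroupTheory.FixedPointFree
import Mathlib.Algebra.Group.Subgroup.Finite

/-!
S3373, case B: general lemmas for the centraliser of the involution.
-/

set_option autoImplicit false
set_option linter.style.haveILetI false
set_option linter.unusedSectionVars false

namespace Cfsg.Agent.L43Three.CaseB

open Subgroup
open scoped Pointwise

universe u

/-- An element mapping generators of a subgroup into it normalises it. -/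
theorem mem_normalizer_closure {G : Type*} [Group G] [Finite G] {S : Set G} {g : G}
    (h : ∀ s ∈ S, g * s * g⁻¹ ∈ closure S) : g ∈ normalizer (closure S : Set G) :=
  mem_normalizer_fintype fun n hn => by
    have h1 : (closure S).map (MulAut.conj g).toMonoidHom ≤ closure S := by
      rw [MonoidHom.map_closure, closure_le]
      rintro _ ⟨s, hs, rfl⟩
      exact h s hs
    exact h1 ⟨n, hn, rfl⟩

/-- In an odd order subgroup the square root of one is one. -/
theorem eq_one_of_sq {Q : Type*} [Group Q] [Finite Q] {O : Subgroup Q} (hodd : Odd (Nat.card O))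
    {x : Q} (hx : x ∈ O) (h : x * x = 1) : x = 1 := by
  have h2 : orderOf x ∣ 2 := orderOf_dvd_of_pow_eq_one (by rw [pow_two, h])
  have h3 : orderOf x ∣ Nat.card O := Subgroup.orderOf_mk (G := Q) (H := O) x hx ▸ orderOf_dvd_natCard _
  have h4 := Nat.dvd_gcd h2 h3
  rw [Nat.coprime_two_left.2 hodd, Nat.dvd_one, orderOf_eq_one_iff] at h4
  exact h4

/-- Burnside's argument for a subgroup with a self-normalising cyclic Sylow 3-subgroup, normalised
by a noncyclic 3-group with centralisers in `H`. -/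
theorem le_of_burnside {G : Type*} [Group G] [Finite G] {X H A : Subgroup G} [IsMulCommutative A]
    {z : G} (hzX : z ∈ X) (hzH : z ∈ H) (hz3 : z ^ 3 = 1)
    (hnorm : ∀ g ∈ X, g * z * g⁻¹ ∈ zpowers z → g * z = z * g ∧ g * g ∈ zpowers z)
    (hA : ¬ IsCyclic A) (h3 : IsPGroup 3 A) (hAX : A ≤ normalizer (X : Set G))
    (hAC : ∀ a ∈ A, a ≠ 1 → centralizer ({a} : Set G) ≤ H) : X ≤ H := by
  haveI : Fact (Nat.Prime 3) := ⟨Nat.prime_three⟩
  set W : Subgroup X := zpowers ⟨z, hzX⟩ with hW
  have hWp : IsPGroup 3 W := by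
    obtain ⟨i, -, hi⟩ := (Nat.dvd_prime_pow Nat.prime_three).1 (orderOf_dvd_of_pow_eq_one
      (show (⟨z, hzX⟩ : X) ^ 3 ^ 1 = 1 from Subtype.ext (by rw [pow_one]; exact hz3)))
    exact IsPGroup.of_card (n := i) (by rw [hW, Nat.card_zpowers, hi])
  have memW : ∀ g : X, g ∈ W ↔ (g : G) ∈ zpowers z := fun g =>
    ⟨fun h => by obtain ⟨n, rfl⟩ := mem_zpowers_iff.1 h; exact ⟨n, by simp⟩,
      fun h => by obtain ⟨n, hn⟩ := mem_zpowers_iff.1 h
                  exact ⟨n, Subtype.ext (by simpa using hn)⟩⟩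
  obtain ⟨R, hR⟩ := hWp.exists_le_sylow
  have eR : (R : Subgroup X) = W := eq_of_rigid R.isPGroup' hR (mem_zpowers (⟨z, hzX⟩ : X))
    fun g hg hgW => by
      obtain ⟨k, hk⟩ := R.isPGroup' ⟨g, hg⟩
      have hk' : g ^ 3 ^ k = 1 := congrArg Subtype.val hk
      have hodd : Odd (3 ^ k) := (by decide : Odd 3).pow
      obtain ⟨m, hm⟩ := hodd
      have e : g = (g * g) ^ (m + 1) := by
        rw [← pow_two, ← pow_mul, show 2 * (m + 1) = 3 ^ k + 1 by omega, pow_succ, hk', one_mul]
      rw [e]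
      exact pow_mem ((memW _).2 (hnorm g g.2 ((memW _).1 hgW)).2) _
  have hNC : normalizer (R : Set X) ≤ centralizer (R : Set X) := by
    intro g hg
    have h1 : g * ⟨z, hzX⟩ * g⁻¹ ∈ W := by
      rw [← eR]; exact (mem_normalizer_iff.1 hg _).1 (eR ▸ mem_zpowers _)
    have hc : Commute (⟨z, hzX⟩ : X) g :=
      Subtype.ext (hnorm g g.2 ((memW _).1 h1)).1.symm
    refine mem_centralizer_iff.2 fun x hx => ?_
    obtain ⟨n, rfl⟩ := mem_zpowers_iff.1 (show x ∈ W from eR ▸ hx)
    exact hc.zpow_left n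
  obtain ⟨Q, N, hN, hcompl⟩ := Fusion.hasNormalPComplement_of_normalizer_le_centralizer R hNC
  have h3N : ¬ 3 ∣ Nat.card N := by
    rw [← hcompl.index_eq_card]; exact Q.not_dvd_index
  have hcop : N.index.Coprime (Nat.card N) := by
    obtain ⟨m, hm⟩ := Q.isPGroup'.exists_card_eq
    rw [hcompl.symm.index_eq_card, hm]
    exact ((Nat.Prime.coprime_iff_not_dvd Nat.prime_three).2 h3N).pow_left m
  set K : Subgroup G := N.map X.subtype with hK
  have hAK : A ≤ normalizer (K : Set G) := fun a ha => mem_normalizer_fintype fun n hn => by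
    obtain ⟨⟨y, hy⟩, hyN, rfl⟩ := hn
    have hayX : a * y * a⁻¹ ∈ X := (mem_normalizer_iff.1 (hAX ha) y).1 hy
    refine ⟨⟨_, hayX⟩, ?_, rfl⟩
    have hp : (⟨_, hayX⟩ : X) ^ Nat.card N = 1 := Subtype.ext (by
      rw [coe_pow, conj_pow]
      have := congrArg (fun w : N => ((w : X) : G)) (pow_card_eq_one' (x := (⟨⟨y, hy⟩, hyN⟩ : N)))
      simp only [coe_pow, coe_one] at this
      rw [this, mul_one, mul_inv_cancel, coe_one])
    obtain ⟨m, hm⟩ := exists_pow_eq_self_of_coprime
      (hcop.coprime_dvd_right (orderOf_dvd_of_pow_eq_one hp))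
    rw [← hm]
    exact pow_mem (N.pow_index_mem _) _
  have hKH : K ≤ H := le_of_coprime hA h3 hAK
    (by rw [hK, card_map_of_injective X.subtype_injective]; exact h3N) hAC
  have htop : (N ⊔ W : Subgroup X) = ⊤ := by
    obtain ⟨c, hc⟩ := MulAction.exists_smul_eq X Q R
    rw [eq_top_iff, ← eR, ← hc, Sylow.coe_subgroup_smul]
    intro g _
    have h1 : c⁻¹ * g * c ∈ (N : Set X) * ((Q : Subgroup X) : Set X) := by
      rw [hcompl.mul_eq]; exact Set.mem_univ _
    obtain ⟨n, hn, q, hq, e⟩ := h1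
    have e2 : g = c * n * c⁻¹ * (c * q * c⁻¹) := by
      simp only at e
      calc g = c * (c⁻¹ * g * c) * c⁻¹ := by group
        _ = c * (n * q) * c⁻¹ := by rw [e]
        _ = c * n * c⁻¹ * (c * q * c⁻¹) := by group
    rw [e2]
    exact mul_mem (mem_sup_left (hN.conj_mem n hn c))
      (mem_sup_right ⟨q, hq, by simp [MulAut.smul_def]⟩)
  intro g hg
  have h1 : (⟨g, hg⟩ : X) ∈ H.subgroupOf X :=
    (sup_le (fun n hn => mem_subgroupOf.2 (hKH ⟨n, hn, rfl⟩))
      (by rw [hW, zpowers_le]; exact mem_subgroupOf.2 hzH) : N ⊔ W ≤ H.subgroupOf X)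
      (htop ▸ mem_top _)
  exact mem_subgroupOf.1 h1

/-- Glauberman's theorem in a section. -/
theorem le_of_isolated {G : Type u} [Group G] [Finite G] {N K H : Subgroup G}
    (hn : N ≤ normalizer (K : Set G)) (hKH : K ≤ H) {j : G} (hjN : j ∈ N) (hjj : j * j ∈ K)
    (hjK : j ∉ K)
    (hiso : ∀ g ∈ N, g * j * g⁻¹ * j * (g * j * g⁻¹)⁻¹ * j⁻¹ ∈ K → g * j * g⁻¹ * j⁻¹ ∈ K)
    (hcent : ∀ g ∈ N, g * j * g⁻¹ * j⁻¹ ∈ K → g ∈ H)
    (hodd : ∀ (Q : Type u) [Group Q] [Finite Q] (π : N →* Q), (∀ x, π x = 1 ↔ (x : G) ∈ K) →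
      Function.Surjective π → ∀ O : Subgroup Q, O.Normal → Odd (Nat.card O) →
      ∀ x : N, π x ∈ O → (x : G) ∈ H) : N ≤ H := by
  haveI : (K.subgroupOf N).Normal := normal_subgroupOf_of_le_normalizer hn
  haveI : Fact (Nat.Prime 2) := ⟨Nat.prime_two⟩
  let π := QuotientGroup.mk' (K.subgroupOf N)
  have hker : ∀ x, π x = 1 ↔ (x : G) ∈ K := fun x =>
    (QuotientGroup.eq_one_iff x).trans mem_subgroupOf
  have heq : ∀ x y, π x = π y ↔ (x : G) * (y : G)⁻¹ ∈ K := fun x y => by
    rw [← mul_inv_eq_one, ← map_inv, ← map_mul, hker]; rfl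
  have hsur : Function.Surjective π := QuotientGroup.mk'_surjective _
  set J : N := ⟨j, hjN⟩ with hJ
  have ho : orderOf (π J) = 2 := orderOf_eq_prime
    (by rw [pow_two, ← map_mul, hker]; exact hjj) (fun e => hjK ((hker J).1 e))
  have hi : Cfsg.IsIsolated (π J) := fun q hq => by
    obtain ⟨g, rfl⟩ := hsur q
    rw [← map_inv, ← map_mul, ← map_mul, commute_iff_eq, ← map_mul, ← map_mul, eq_comm, heq] at hq
    rw [← map_inv, ← map_mul, ← map_mul, heq]
    refine hiso g g.2 ?_
    simpa [hJ, mul_assoc] using hq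
  have hsup := McLTwoA8.sup_oddCore_of_isolated (π J) ho hi
  intro g hg
  have h1 : π ⟨g, hg⟩ ∈ (H.subgroupOf N).map π := by
    refine (sup_le ?_ ?_ : _ ≤ (H.subgroupOf N).map π) (hsup ▸ mem_top _)
    · intro q hq
      obtain ⟨x, rfl⟩ := hsur q
      refine ⟨x, mem_subgroupOf.2 (hcent x x.2 ?_), rfl⟩
      have h2 := mem_centralizer_singleton_iff.1 hq
      rw [← map_mul, ← map_mul, heq] at h2
      simpa [hJ, mul_assoc] using h2
    · intro q hq
      obtain ⟨x, rfl⟩ := hsur q
      exact ⟨x, mem_subgroupOf.2 (hodd _ π hker hsur _ (FittingCores.pPrimeCore_normal 2)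
        (Nat.coprime_two_right.1 (FittingCores.pPrimeCore_coprime (G := N ⧸ K.subgroupOf N) 2))
        x hq), rfl⟩
  obtain ⟨h, hh, e⟩ := h1
  rw [eq_comm, heq] at e
  have e2 : g = g * (h : G)⁻¹ * h := by group
  rw [e2]
  exact mul_mem (hKH e) (mem_subgroupOf.1 hh)

section odd

variable {Q : Type*} [Group Q] [Finite Q] {O H : Subgroup Q}

/-- An odd normal subgroup under a four-group with fixed points in `H` lies in `H`. -/
theorem le_of_four (hn : O.Normal) (hodd : Odd (Nat.card O)) {a b : Q} (haa : a * a = 1)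
    (hbb : b * b = 1) (hab : a * b = b * a) (ha : a ≠ 1) (hb : b ≠ 1) (hne : a ≠ b)
    (hC : ∀ x ∈ O, ∀ c, c = a ∨ c = b ∨ c = a * b → x * c = c * x → x ∈ H) : O ≤ H := by
  haveI : Fact (Nat.Prime 2) := ⟨Nat.prime_two⟩
  have hba : ∀ c, b * (a * c) = a * (b * c) := fun c => by rw [← mul_assoc, ← hab, mul_assoc]
  have haa' : ∀ c, a * (a * c) = c := fun c => by rw [← mul_assoc, haa, one_mul]
  let A : Subgroup Q :=
    { carrier := {1, a, b, a * b}
      one_mem' := Or.inl rfl
      mul_mem' := by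
        intro x y hx hy
        simp only [Set.mem_insert_iff, Set.mem_singleton_iff] at hx hy ⊢
        rcases hx with rfl | rfl | rfl | rfl <;> rcases hy with rfl | rfl | rfl | rfl <;>
          simp [mul_assoc, haa, hbb, hba, haa', ← hab]
      inv_mem' := by
        intro x hx
        simp only [Set.mem_insert_iff, Set.mem_singleton_iff] at hx ⊢
        rcases hx with rfl | rfl | rfl | rfl
        · simp
        · exact Or.inr (Or.inl (inv_eq_of_mul_eq_one_left haa))
        · exact Or.inr (Or.inr (Or.inl (inv_eq_of_mul_eq_one_left hbb)))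
        · exact Or.inr (Or.inr (Or.inr (inv_eq_of_mul_eq_one_left (by
            simp [mul_assoc, hba, haa, hbb])))) }
  have memA : ∀ c, c ∈ A → c = 1 ∨ c = a ∨ c = b ∨ c = a * b := fun c hc => hc
  have sqA : ∀ c ∈ A, c * c = 1 := fun c hc => by
    rcases memA c hc with rfl | rfl | rfl | rfl <;> simp [mul_assoc, haa, hbb, hba]
  haveI : IsMulCommutative A := ⟨⟨fun ⟨x, hx⟩ ⟨y, hy⟩ => Subtype.ext (by
    show x * y = y * x
    have h := sqA _ (A.mul_mem hx hy)
    rw [eq_inv_of_mul_eq_one_left h, mul_inv_rev, ← eq_inv_of_mul_eq_one_left (sqA x hx),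
      ← eq_inv_of_mul_eq_one_left (sqA y hy)])⟩⟩
  have hAc : ¬ IsCyclic A := fun h => by
    obtain ⟨⟨c, hc⟩, hgen⟩ := h.exists_generator
    have key : ∀ d ∈ A, d = 1 ∨ d = c := fun d hd => by
      obtain ⟨n, hn'⟩ := mem_zpowers_iff.1 (hgen ⟨d, hd⟩)
      have e : c ^ n = d := by simpa using congrArg Subtype.val hn'
      obtain ⟨m, rfl | rfl⟩ := n.even_or_odd'
      · left
        rw [← e, _root_.zpow_mul, _root_.zpow_two, sqA c hc, _root_.one_zpow]
      · right
        rw [← e, _root_.zpow_add, _root_.zpow_mul, _root_.zpow_two, sqA c hc, _root_.one_zpow,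
          one_mul, _root_.zpow_one]
    rcases key a (Or.inr (Or.inl rfl)) with e | e
    · exact ha e
    rcases key b (Or.inr (Or.inr (Or.inl rfl))) with e' | e'
    · exact hb e'
    exact hne (e.trans e'.symm)
  have hAp : IsPGroup 2 A := fun x => ⟨1, Subtype.ext (by
    rw [pow_one, coe_pow, pow_two]; exact sqA x x.2)⟩
  obtain ⟨m, hm⟩ := hAp.exists_card_eq
  have hgen := CoprimeAct.generated_by_centralizers (A := A) (K := O) hAc
    (by rw [normalizer_eq_top_iff.2 hn]; exact le_top)
    (by rw [hm]; exact (Nat.coprime_two_left.2 hodd).pow_left m)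
  rw [← hgen]
  exact iSup₂_le fun c hc x hx =>
    hC x hx.1 c ((memA c hc.1).resolve_left hc.2) (mem_centralizer_singleton_iff.1 hx.2)

/-- An odd normal subgroup on which an involution is fixed point free, together with a
fixed point free element of order three of an alternating group of degree four, is trivial. -/
theorem eq_one_of_tetrahedral (hn : O.Normal) (hodd : Odd (Nat.card O)) {j a b w : Q}
    (hj2 : j * j = 1) (hj : ∀ x ∈ O, x * j = j * x → x = 1) (haa : a * a = 1) (hbb : b * b = 1)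
    (hab : a * b = b * a) (hw3 : w * w * w = 1) (hwa : w * a * w⁻¹ = b)
    (hwb : w * b * w⁻¹ = a * b) (hV : ∀ x ∈ O, x * a = a * x → x * b = b * x → x = 1)
    (hw : ∀ x ∈ O, x * w = w * x → x = 1) : ∀ x ∈ O, x = 1 := by
  have conj : ∀ c, ∀ x ∈ O, c * x * c⁻¹ ∈ O := fun c x hx => hn.conj_mem x hx c
  have inv2 : ∀ {c : Q}, c * c = 1 → c⁻¹ = c := fun h => inv_eq_of_mul_eq_one_left h
  -- commutativity
  haveI := hn
  have hcomm : ∀ x ∈ O, ∀ y ∈ O, x * y = y * x := fun x hx y hy => by
    have hf : MonoidHom.FixedPointFree (MulAut.conjNormal (H := O) j) := fun g hg =>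
      Subtype.ext (hj g g.2 (by
        have h := congrArg Subtype.val hg
        rw [MulAut.conjNormal_apply, mul_inv_eq_iff_eq_mul] at h
        exact h.symm))
    have hi : Function.Involutive (MulAut.conjNormal (H := O) j) := fun g => Subtype.ext (by
      rw [MulAut.conjNormal_apply, MulAut.conjNormal_apply, inv2 hj2]
      calc j * (j * (g : Q) * j) * j = j * j * g * (j * j) := by group
        _ = g := by rw [hj2, one_mul, mul_one])
    exact congrArg Subtype.val (hf.commute_all_of_involutive hi ⟨x, hx⟩ ⟨y, hy⟩)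
  -- a product of an element of `O` and its image under an involution is fixed
  have fixprod : ∀ {c : Q}, c * c = 1 → ∀ y ∈ O, y * (c * y * c) * c = c * (y * (c * y * c)) := by
    intro c hc y hy
    have h1 : c * y * c ∈ O := by simpa [inv2 hc] using conj c y hy
    calc y * (c * y * c) * c = c * y * c * y * c := by rw [hcomm y hy _ h1]
      _ = c * (y * (c * y * c)) := by group
  -- an involution commuting with `c` keeps the fixed points of `c`
  have keep : ∀ {c d : Q}, c * d = d * c → ∀ y, y * d = d * y →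
      y * (c * y * c) * d = d * (y * (c * y * c)) := by
    intro c d hcd y hyd
    calc y * (c * y * c) * d = y * c * y * (c * d) := by group
      _ = y * c * (y * d) * c := by rw [hcd]; group
      _ = y * (c * d) * y * c := by rw [hyd]; group
      _ = y * d * c * y * c := by rw [hcd]; group
      _ = d * (y * (c * y * c)) := by rw [hyd]; group
  have conjc : ∀ {c x : Q}, x * c = c * x → w * x * w⁻¹ * (w * c * w⁻¹) = w * c * w⁻¹ * (w * x * w⁻¹) := by
    intro c x h
    calc w * x * w⁻¹ * (w * c * w⁻¹) = w * (x * c) * w⁻¹ := by group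
      _ = _ := by rw [h]; group
  -- fixed points of `a`
  have hA : ∀ x ∈ O, x * a = a * x → x = 1 := by
    intro x hx hxa
    set y := w * x * w⁻¹ with hy
    set z := w * y * w⁻¹ with hz
    have hyO : y ∈ O := conj w x hx
    have hzO : z ∈ O := conj w y hyO
    have hyb : y * b = b * y := by rw [← hwa]; exact conjc hxa
    have hzc : z * (a * b) = a * b * z := by rw [← hwb]; exact conjc hyb
    have hwz : w * z * w⁻¹ = x := by
      have hw3' : w * (w * w) = 1 := by rw [← mul_assoc]; exact hw3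
      calc w * z * w⁻¹ = w * (w * w) * x * (w * (w * w))⁻¹ := by rw [hz, hy]; group
        _ = x := by rw [hw3', inv_one, one_mul, mul_one]
    have hp : x * y * z = 1 := hw _ (mul_mem (mul_mem hx hyO) hzO) (by
      have e : w * (x * y * z) * w⁻¹ = x * y * z := by
        calc w * (x * y * z) * w⁻¹ = y * z * (w * z * w⁻¹) := by rw [hz, hy]; group
          _ = y * z * x := by rw [hwz]
          _ = x * (y * z) := (hcomm x hx _ (mul_mem hyO hzO)).symm
          _ = x * y * z := (mul_assoc _ _ _).symm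
      rw [mul_inv_eq_iff_eq_mul] at e
      exact e.symm)
    have hyO' : a * y * a ∈ O := by simpa [inv2 haa] using conj a y hyO
    have hzO' : a * z * a ∈ O := by simpa [inv2 haa] using conj a z hzO
    have hy1 : y * (a * y * a) = 1 :=
      hV _ (mul_mem hyO hyO') (fixprod haa y hyO) (keep hab y hyb)
    have hz1 : z * (a * z * a) = 1 := by
      refine hV _ (mul_mem hzO hzO') (fixprod haa z hzO) ?_
      have h1 := keep (c := a) (d := a * b) (by rw [mul_assoc a b a, ← hab]) z hzc
      have h2 := fixprod haa z hzO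
      have eb : b = a * (a * b) := by rw [← mul_assoc, haa, one_mul]
      rw [eb, ← mul_assoc, h2, mul_assoc, h1]
      group
    have hxy : x = (y * z)⁻¹ := eq_inv_of_mul_eq_one_left (by rw [← mul_assoc, hp])
    have hax : a * x * a = x := by rw [← hxa, mul_assoc, haa, mul_one]
    have h5 : a * (y * z) * a = (y * z)⁻¹ := by
      calc a * (y * z) * a = a * y * (a * a) * z * a := by rw [haa]; group
        _ = a * y * a * (a * z * a) := by group
        _ = y⁻¹ * z⁻¹ := by rw [eq_inv_of_mul_eq_one_right hy1, eq_inv_of_mul_eq_one_right hz1]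
        _ = (y * z)⁻¹ := by rw [← mul_inv_rev, hcomm z hzO y hyO]
    have h6 : (y * z)⁻¹ = y * z := by
      have : a * (y * z)⁻¹ * a = (a * (y * z) * a)⁻¹ := by
        rw [mul_inv_rev (a * (y * z)) a, mul_inv_rev a (y * z), inv2 haa, mul_assoc]
      rw [h5, inv_inv, ← hxy, hax] at this
      rw [← hxy]; exact this
    refine eq_one_of_sq hodd hx ?_
    nth_rw 1 [hxy]
    rw [hxy, h6]
    nth_rw 1 [← h6]
    exact inv_mul_cancel _
  -- transport to the other two involutions
  have trans : ∀ {c : Q}, (∀ x ∈ O, x * c = c * x → x = 1) →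
      ∀ x ∈ O, x * (w * c * w⁻¹) = w * c * w⁻¹ * x → x = 1 := by
    intro c hc x hx h
    have h1 : w⁻¹ * x * w = 1 := hc _ (by simpa using conj w⁻¹ x hx) (by
      calc w⁻¹ * x * w * c = w⁻¹ * (x * (w * c * w⁻¹)) * w := by group
        _ = w⁻¹ * (w * c * w⁻¹ * x) * w := by rw [h]
        _ = c * (w⁻¹ * x * w) := by group)
    calc x = w * (w⁻¹ * x * w) * w⁻¹ := by group
      _ = 1 := by rw [h1, mul_one, mul_inv_cancel]
  have hB : ∀ x ∈ O, x * b = b * x → x = 1 := hwa ▸ trans hA
  have hAB : ∀ x ∈ O, x * (a * b) = a * b * x → x = 1 := hwb ▸ trans hB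
  intro x hx
  have inverts : ∀ {c : Q}, c * c = 1 → (∀ y ∈ O, y * c = c * y → y = 1) → c * x * c = x⁻¹ :=
    fun {c} hc hC => eq_inv_of_mul_eq_one_right (hC _
      (mul_mem hx (by simpa [inv2 hc] using conj c x hx)) (fixprod hc x hx))
  refine hAB x hx ?_
  have h1 : a * b * x * (a * b)⁻¹ = x := by
    calc a * b * x * (a * b)⁻¹ = a * (b * x * b⁻¹) * a⁻¹ := by group
      _ = a * x⁻¹ * a := by rw [inv2 hbb, inv2 haa, inverts hbb hB]
      _ = (a * x * a)⁻¹ := by rw [mul_inv_rev (a * x) a, mul_inv_rev a x, inv2 haa, mul_assoc]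
      _ = x := by rw [inverts haa hA, inv_inv]
  rw [mul_inv_eq_iff_eq_mul] at h1
  exact h1.symm

end odd

end Cfsg.Agent.L43Three.CaseB
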