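import Cfsg.Agent.Lib.L43Three.CaseB.Invol.Blocks
import Cfsg.Agent.Lib.L43Three.CaseB.Invol.Generic

/-!
S3373, case B: named elements of the centraliser of the involution.
-/

set_option autoImplicit false
set_option linter.style.haveILetI false
set_option linter.unusedSectionVars false
set_option maxHeartbeats 400000
set_option maxRecDepth 20000

namespace Cfsg.Agent.L43Three.CaseB

open Subgroup

/-- Equality of pairs of blocks up to a common sign. -/
def Pm (A A' B B' : M2) : Prop := (A = A' ∧ B = B') ∨ (A = A'.neg ∧ B = B'.neg)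

instance (A A' B B' : M2) : Decidable (Pm A A' B B') := inferInstanceAs (Decidable (_ ∨ _))

/-- The block diagonal element. -/
def el (A B : M2) : S4 := mkS (dg A B)

/-- The swap of the two blocks. -/
def sw : S4 := mkS (ad qE qE)

theorem code_sw : code sw = ad qE qE := code_mkS (by decide +kernel)

theorem code_el {A B : M2} (h : A.det.mul B.det = .o) : code (el A B) = dg A B :=
  code_mkS (by rw [det_dg]; exact h)

theorem el_mul {A B C D : M2} (h : A.det.mul B.det = .o) (h' : C.det.mul D.det = .o) :
    el A B * el C D = el (A.mul C) (B.mul D) :=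
  eq_mkS (by rw [code_mul, code_el h, code_el h', dg_mul_dg])

theorem el_one : el qE qE = 1 := code_injective (by rw [code_el (by decide), code_one, one_eq])

theorem t4_el : t4 = el qN qE := t4_eq

/-- The unipotent of parameter `a`. -/
def qUp (a : K) : M2 := ⟨.o, F3.ofK a, .z, .o⟩

/-- The abelian group of unipotent pairs. -/
def AD : E9 →* S4 :=
  mkElem (fun v => dg (qUp v.toAdd.1) (qUp v.toAdd.2)) (by decide +kernel) (by decide +kernel)

theorem code_AD (v : E9) : code (AD v) = dg (qUp v.toAdd.1) (qUp v.toAdd.2) :=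
  code_mkElem _ _ _ v

theorem AD_eq (v : E9) : AD v = el (qUp v.toAdd.1) (qUp v.toAdd.2) := eq_mkS (code_AD v)

theorem AD_cube (v : E9) : AD v ^ 3 = 1 := by rw [← map_pow, e9_cube, map_one]

theorem AD_ne (v : E9) (hv : v ≠ 1) : AD v ≠ 1 := fun h => by
  have key : ∀ v : E9, v ≠ 1 → dg (qUp v.toAdd.1) (qUp v.toAdd.2) ≠ M4.one := by decide +kernel
  exact key v hv (by rw [← code_AD, h, code_one])

namespace Hyp

variable {G : Type*} [Group G] [Finite G] (P : Hyp G)
include P

/-- The image of a block diagonal element. -/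
abbrev D (A B : M2) : G := P.f (el A B)

theorem D_mul {A B C E : M2} (h : A.det.mul B.det = .o) (h' : C.det.mul E.det = .o) :
    P.D A B * P.D C E = P.D (A.mul C) (B.mul E) := by rw [D, D, D, ← map_mul, el_mul h h']

theorem D_eq {A B C E : M2} (h : A.det.mul B.det = .o) (h' : C.det.mul E.det = .o)
    (he : Pm A C B E) : P.D A B = P.D C E := P.eq_of_code (by
  rw [code_el h, code_el h', neg_dg]
  rcases he with ⟨rfl, rfl⟩ | ⟨rfl, rfl⟩
  · exact Or.inl rfl
  · exact Or.inr rfl)

theorem pm_of_eq {A B C E : M2} (h : A.det.mul B.det = .o) (h' : C.det.mul E.det = .o)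
    (he : P.D A B = P.D C E) : Pm A C B E := by
  have := P.code_of_eq he
  rw [code_el h, code_el h', neg_dg] at this
  exact this.imp dg_injective dg_injective

theorem D_one : P.D qE qE = 1 := by rw [D, el_one, map_one]

theorem D_t : P.D qN qE = P.f t4 := by rw [D, t4_el]

theorem D_mul_inv {A B C E : M2} (h : A.det.mul B.det = .o) (h' : C.det.mul E.det = .o)
    (he : Pm (A.mul C) qE (B.mul E) qE) : (P.D A B)⁻¹ = P.D C E := by
  refine inv_eq_of_mul_eq_one_right ?_
  rw [P.D_mul h h', ← P.D_one]
  have hd : ∀ A C : M2, (A.mul C).det = A.det.mul C.det := by decide +kernel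
  refine P.D_eq ?_ (by decide) he
  rw [hd, hd]
  have : ∀ a b c e : F3, a.mul b = .o → c.mul e = .o → (a.mul c).mul (b.mul e) = .o := by decide
  exact this _ _ _ _ h h'

/-- Conjugation of a diagonal element by a block diagonal element, read on blocks. -/
theorem conj_diag {x : S4} {A B C C' E F : M2} (hx : code x = dg A B)
    (h : C.det.mul C'.det = .o) (h' : E.det.mul F.det = .o)
    (he : P.f x * P.D C C' * (P.f x)⁻¹ = P.D E F) :
    Pm (A.mul C) (E.mul A) (B.mul C') (F.mul B) := by
  rw [mul_inv_eq_iff_eq_mul, D, D, ← map_mul, ← map_mul] at he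
  have := P.code_of_eq he
  rw [code_mul, code_mul, hx, code_el h, code_el h', dg_mul_dg, dg_mul_dg, neg_dg] at this
  exact this.imp dg_injective dg_injective

/-- Conjugation of a diagonal element by a block antidiagonal element, read on blocks. -/
theorem conj_anti {x : S4} {A B C C' E F : M2} (hx : code x = ad A B)
    (h : C.det.mul C'.det = .o) (h' : E.det.mul F.det = .o)
    (he : P.f x * P.D C C' * (P.f x)⁻¹ = P.D E F) :
    Pm (A.mul C') (E.mul A) (B.mul C) (F.mul B) := by
  rw [mul_inv_eq_iff_eq_mul, D, D, ← map_mul, ← map_mul] at he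
  have := P.code_of_eq he
  rw [code_mul, code_mul, hx, code_el h, code_el h', ad_mul_dg, dg_mul_ad, neg_ad] at this
  exact this.imp ad_injective ad_injective

/-- Conjugation of a diagonal element by a block diagonal element, from the blocks. -/
theorem conj_of {A B C C' E F : M2} (hx : A.det.mul B.det = .o)
    (h : C.det.mul C'.det = .o) (h' : E.det.mul F.det = .o)
    (he : Pm (A.mul C) (E.mul A) (B.mul C') (F.mul B)) :
    P.D A B * P.D C C' * (P.D A B)⁻¹ = P.D E F := by
  rw [mul_inv_eq_iff_eq_mul, P.D_mul hx h, P.D_mul h' hx]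
  have hd : ∀ A C : M2, (A.mul C).det = A.det.mul C.det := by decide +kernel
  have : ∀ a b c e : F3, a.mul b = .o → c.mul e = .o → (a.mul c).mul (b.mul e) = .o := by decide
  exact P.D_eq (by rw [hd, hd]; exact this _ _ _ _ hx h) (by rw [hd, hd]; exact this _ _ _ _ h' hx) he

theorem sw_conj {A B : M2} (h : A.det.mul B.det = .o) :
    P.f sw * P.D A B * (P.f sw)⁻¹ = P.D B A := by
  have h' : B.det.mul A.det = .o := by
    have : ∀ a b : F3, a.mul b = b.mul a := by decide
    rw [this, h]
  rw [mul_inv_eq_iff_eq_mul, D, D, ← map_mul, ← map_mul]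
  refine P.eq_of_code (Or.inl ?_)
  rw [code_mul, code_mul, code_sw, code_el h, code_el h', ad_mul_dg, dg_mul_ad]
  have : ∀ a : M2, qE.mul a = a ∧ a.mul qE = a := by decide +kernel
  simp [this]

theorem AD_comm : IsMulCommutative (P.f.comp AD).range := elem_comm _

theorem AD_not_cyclic : ¬ IsCyclic (P.f.comp AD).range := elem_not_cyclic _ fun v hv => by
  by_contra hne
  have key : ∀ v : E9, v ≠ 1 → Proper (dg (qUp v.toAdd.1) (qUp v.toAdd.2)) := by decide +kernel
  exact P.ne_one_of_proper (x := AD v) (by rw [code_AD]; exact key v hne) hv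

/-- Elements of the group generated by the image of an element of order four. -/
theorem mem_cyclic_four {g : G} (hg : g ∈ closure ({P.D qI qE} : Set G)) :
    ∃ k : Fin 4, g = P.D (qI.pow k) qE := by
  have e1 : ∀ n : ℕ, P.D qI qE ^ n = P.D (qI.pow n) qE := by
    intro n
    induction n with
    | zero => rw [pow_zero]; exact P.D_one.symm
    | succ n ih =>
      have hd : ∀ n : ℕ, (qI.pow n).det = .o := by
        intro n
        induction n with
        | zero => rfl
        | succ n ih =>
          have hdd : ∀ A : M2, A.det = .o → (A.mul qI).det = .o := by decide +kernel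
          exact hdd _ ih
      rw [pow_succ, ih, P.D_mul (by rw [hd]; decide) (by decide)]
      rfl
  obtain ⟨n, rfl⟩ := mem_zpowers_iff.1 (zpowers_eq_closure (P.D qI qE) ▸ hg)
  have h4 : P.D qI qE ^ 4 = 1 := by rw [e1, ← P.D_one]; exact P.D_eq (by decide) (by decide) (by decide)
  refine ⟨⟨(n % 4).toNat, by omega⟩, ?_⟩
  rw [← e1]
  conv_lhs => rw [← Int.emod_add_mul_ediv n 4]
  rw [_root_.zpow_add, _root_.zpow_mul, zpow_ofNat, h4, _root_.one_zpow, mul_one]
  have : n % 4 = ((n % 4).toNat : ℤ) := (Int.toNat_of_nonneg (Int.emod_nonneg _ (by norm_num))).symm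
  conv_lhs => rw [this, zpow_natCast]

end Hyp

end Cfsg.Agent.L43Three.CaseB
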