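import Cfsg.Agent.Lib.L43Three.CaseB.Invol.Elts

/-!
S3373, case B: centralisers and normalisers of the quaternion factors.
-/

set_option autoImplicit false
set_option linter.style.haveILetI false
set_option linter.unusedSectionVars false
set_option maxHeartbeats 1000000
set_option maxRecDepth 20000

namespace Cfsg.Agent.L43Three.CaseB

open Subgroup

namespace Hyp

variable {G : Type*} [Group G] [Finite G] (P : Hyp G)

/-- Centralisers of elements of order three lie in the image. -/
def CentThree : Prop :=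
  ∀ x : S4, x ^ 3 = 1 → x ≠ 1 → centralizer ({P.f x} : Set G) ≤ P.f.range

/-- The image controls the fusion of elements of order three. -/
def ConjThree : Prop :=
  ∀ (x : S4) (g : G), x ^ 3 = 1 → x ≠ 1 → g * P.f x * g⁻¹ ∈ P.f.range → g ∈ P.f.range

/-- The first quaternion factor. -/
abbrev Q1 : Set G := {P.D qI qE, P.D qJ qE}

/-- The second quaternion factor. -/
abbrev Q2 : Set G := {P.D qE qI, P.D qE qJ}

include P

theorem mem_centralizer_pair {a b g : G} :
    g ∈ centralizer ({a, b} : Set G) ↔ g * a = a * g ∧ g * b = b * g := by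
  rw [mem_centralizer_iff]
  exact ⟨fun h => ⟨(h a (Or.inl rfl)).symm, (h b (Or.inr rfl)).symm⟩, fun h c hc => by
    rcases hc with rfl | rfl
    exacts [h.1.symm, h.2.symm]⟩

/-- The involution is the square of an element of the first factor. -/
theorem sq_one : P.D qI qE * P.D qI qE = P.f t4 := by
  rw [P.D_mul (by decide) (by decide), ← P.D_t]; rfl

theorem q1_le_t {g : G} (hg : g * P.D qI qE = P.D qI qE * g) :
    g ∈ centralizer ({P.f t4} : Set G) := by
  rw [mem_centralizer_singleton_iff, ← P.sq_one, ← mul_assoc, hg, mul_assoc, hg, mul_assoc]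

theorem el_u_cube : el qE qU ^ 3 = 1 ∧ el qE qU ≠ 1 ∧ el qU qE ^ 3 = 1 ∧ el qU qE ≠ 1 := by
  refine ⟨code_injective ?_, fun h => ?_, code_injective ?_, fun h => ?_⟩
  · rw [code_pow, code_el (by decide), code_one]; decide +kernel
  · have := congrArg code h
    rw [code_el (by decide), code_one] at this
    exact absurd this (by decide +kernel)
  · rw [code_pow, code_el (by decide), code_one]; decide +kernel
  · have := congrArg code h
    rw [code_el (by decide), code_one] at this
    exact absurd this (by decide +kernel)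

/-- The centraliser of the first quaternion factor lies in the image. -/
theorem centralizer_q1 (h3 : P.CentThree) (hS : P.ConjThree) :
    centralizer P.Q1 ≤ P.f.range := by
  obtain ⟨hw3, hw1, -, -⟩ := P.el_u_cube
  have hz3 : P.D qE qU ^ 3 = 1 := by rw [D, ← map_pow, hw3, map_one]
  have cyc : ∀ y ∈ zpowers (P.D qE qU), y = P.D qE qE ∨ y = P.D qE qU ∨ y = P.D qE (qU.mul qU) := by
    intro y hy
    obtain ⟨n, rfl⟩ := mem_zpowers_iff.1 hy
    have e : n = n % 3 + 3 * (n / 3) := (Int.emod_add_mul_ediv n 3).symm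
    rw [e, _root_.zpow_add, _root_.zpow_mul, zpow_ofNat, hz3, _root_.one_zpow, mul_one]
    have h0 := Int.emod_nonneg n (show (3 : ℤ) ≠ 0 by norm_num)
    have h1 := Int.emod_lt_of_pos n (show (0 : ℤ) < 3 by norm_num)
    rcases (show n % 3 = 0 ∨ n % 3 = 1 ∨ n % 3 = 2 by omega) with h | h | h <;> rw [h]
    · exact Or.inl (by rw [_root_.zpow_zero, P.D_one])
    · exact Or.inr (Or.inl (_root_.zpow_one _))
    · refine Or.inr (Or.inr ?_)
      rw [_root_.zpow_two, P.D_mul (by decide) (by decide)]; rfl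
  haveI := P.AD_comm
  refine le_of_burnside (A := (P.f.comp AD).range) (z := P.D qE qU) ?_ ⟨_, rfl⟩ hz3 ?_
    P.AD_not_cyclic (elem_pgroup _) ?_ ?_
  · rw [P.mem_centralizer_pair]
    constructor
    · rw [P.D_mul (by decide) (by decide), P.D_mul (by decide) (by decide)]; rfl
    · rw [P.D_mul (by decide) (by decide), P.D_mul (by decide) (by decide)]; rfl
  · intro g hg hgz
    obtain ⟨h1, h2⟩ := P.mem_centralizer_pair.1 hg
    have hgH : g ∈ P.f.range := hS (el qE qU) g hw3 hw1 (by
      rcases cyc _ hgz with e | e | e <;> exact ⟨_, e.symm⟩)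
    have hI : g * P.D qI qE * g⁻¹ = P.D qI qE := mul_inv_eq_iff_eq_mul.2 h1
    have hJ : g * P.D qJ qE * g⁻¹ = P.D qJ qE := mul_inv_eq_iff_eq_mul.2 h2
    obtain ⟨A, B, ⟨x, hx, hc, hd⟩ | ⟨x, hx, hc, hd⟩⟩ := P.blocks_of_mem (P.q1_le_t h1) hgH
    · subst hx
      have c1 := P.conj_diag hc (by decide) (by decide) hI
      have c2 := P.conj_diag hc (by decide) (by decide) hJ
      have hx' : P.f x = P.D A B := congrArg P.f (eq_mkS hc)
      have key : ∀ A B : M2, A.det.mul B.det = .o →
          Pm (A.mul qI) (qI.mul A) (B.mul qE) (qE.mul B) →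
          Pm (A.mul qJ) (qJ.mul A) (B.mul qE) (qE.mul B) →
          ∀ C ∈ [qE, qU, qU.mul qU], Pm (A.mul qE) (qE.mul A) (B.mul qU) (C.mul B) →
          C = qU ∧ (A.mul A).det.mul (B.mul B).det = .o ∧ (Pm (A.mul A) qE (B.mul B) qE ∨
            Pm (A.mul A) qE (B.mul B) qU ∨ Pm (A.mul A) qE (B.mul B) (qU.mul qU)) := by
        decide +kernel
      obtain ⟨C, hC, hCe⟩ : ∃ C ∈ [qE, qU, qU.mul qU],
          P.f x * P.D qE qU * (P.f x)⁻¹ = P.D qE C := by
        rcases cyc _ hgz with e | e | e <;> exact ⟨_, by simp, e⟩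
      have hdC : qE.det.mul C.det = .o :=
        (by decide +kernel : ∀ C ∈ [qE, qU, qU.mul qU], qE.det.mul C.det = .o) C hC
      obtain ⟨hCU, hsd, hsq⟩ := key A B hd c1 c2 C hC (P.conj_diag hc (by decide) hdC hCe)
      refine ⟨?_, ?_⟩
      · rw [hCU, mul_inv_eq_iff_eq_mul] at hCe
        exact hCe
      · rw [hx', P.D_mul hd hd]
        rcases hsq with e | e | e
        · rw [P.D_eq hsd (by decide) e, P.D_one]; exact one_mem _
        · rw [P.D_eq hsd (by decide) e]; exact mem_zpowers _
        · rw [P.D_eq (E := qU.mul qU) hsd (by decide) e]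
          have e2 : P.D qE (qU.mul qU) = P.D qE qU * P.D qE qU := by
            rw [P.D_mul (by decide) (by decide)]; rfl
          rw [e2]; exact mul_mem (mem_zpowers _) (mem_zpowers _)
    · subst hx
      have c1 := P.conj_anti hc (by decide) (by decide) hI
      have key : ∀ A B : M2, A.det.mul B.det = .o →
          ¬ Pm (A.mul qE) (qI.mul A) (B.mul qI) (qE.mul B) := by decide +kernel
      exact absurd c1 (key A B hd)
  · rintro _ ⟨v, rfl⟩
    rw [← Subgroup.centralizer_closure]
    have hn : P.f (AD v) ∈ normalizer (closure P.Q1 : Set G) := by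
      refine mem_normalizer_closure ?_
      have hv : ∀ v : E9, (qUp v.toAdd.1).det.mul (qUp v.toAdd.2).det = .o := by decide +kernel
      have mI : P.D qI qE ∈ closure P.Q1 := subset_closure (Or.inl rfl)
      have mJ : P.D qJ qE ∈ closure P.Q1 := subset_closure (Or.inr rfl)
      have mK : P.D qK qE ∈ closure P.Q1 := by
        have e : P.D qK qE = P.D qI qE * P.D qJ qE := by
          rw [P.D_mul (by decide) (by decide)]; rfl
        rw [e]; exact mul_mem mI mJ
      intro s hs
      obtain ⟨C, hC, rfl⟩ : ∃ C ∈ [qI, qJ], s = P.D C qE := by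
        rcases hs with rfl | rfl <;> exact ⟨_, by simp, rfl⟩
      have key : ∀ v : E9, ∀ C ∈ [qI, qJ], C.det.mul qE.det = .o ∧ ∃ C' ∈ [qI, qJ, qK],
          C'.det.mul qE.det = .o ∧
          Pm ((qUp v.toAdd.1).mul C) (C'.mul (qUp v.toAdd.1))
            ((qUp v.toAdd.2).mul qE) (qE.mul (qUp v.toAdd.2)) := by decide +kernel
      obtain ⟨hd0, C', hC', hd', hp⟩ := key v C hC
      rw [AD_eq, P.conj_of (hv v) hd0 hd' hp]
      simp only [List.mem_cons, List.not_mem_nil, or_false] at hC'
      rcases hC' with rfl | rfl | rfl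
      exacts [mI, mJ, mK]
    refine mem_normalizer_fintype fun n hn' => mem_centralizer_iff.2 fun s hs => ?_
    have h1 : (P.f (AD v))⁻¹ * s * P.f (AD v) ∈ closure P.Q1 := by
      have := (mem_normalizer_iff.1 (inv_mem hn) s).1 hs
      rwa [inv_inv] at this
    have h2 := mem_centralizer_iff.1 hn' _ h1
    show s * (P.f (AD v) * n * (P.f (AD v))⁻¹) = P.f (AD v) * n * (P.f (AD v))⁻¹ * s
    calc s * (P.f (AD v) * n * (P.f (AD v))⁻¹)
        = P.f (AD v) * ((P.f (AD v))⁻¹ * s * P.f (AD v) * n) * (P.f (AD v))⁻¹ := by group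
      _ = P.f (AD v) * (n * ((P.f (AD v))⁻¹ * s * P.f (AD v))) * (P.f (AD v))⁻¹ := by rw [h2]
      _ = _ := by group
  · rintro _ ⟨v, rfl⟩ hne
    exact h3 (AD v) (AD_cube v) fun e => hne (show P.f (AD v) = 1 by rw [e, map_one])

/-- If the centraliser of some elements lies in the image and contains an element of order three,
the normaliser of their span lies in the image. -/
theorem normalizer_of_centralizer (hS : P.ConjThree) {S : Set G}
    (hC : centralizer S ≤ P.f.range) {s : S4} (hs3 : s ^ 3 = 1) (hs1 : s ≠ 1)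
    (hs : P.f s ∈ centralizer S) : normalizer (closure S : Set G) ≤ P.f.range := by
  intro g hg
  refine hS s g hs3 hs1 (hC ?_)
  rw [← Subgroup.centralizer_closure] at hs ⊢
  refine mem_centralizer_iff.2 fun v hv => ?_
  have h1 : g⁻¹ * v * g ∈ closure S := by
    have := (mem_normalizer_iff.1 (inv_mem hg) v).1 hv
    rwa [inv_inv] at this
  have h2 := mem_centralizer_iff.1 hs _ h1
  calc v * (g * P.f s * g⁻¹) = g * (g⁻¹ * v * g * P.f s) * g⁻¹ := by group
    _ = g * (P.f s * (g⁻¹ * v * g)) * g⁻¹ := by rw [h2]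
    _ = _ := by group

/-- The normaliser of the first quaternion factor lies in the image. -/
theorem normalizer_q1 (h3 : P.CentThree) (hS : P.ConjThree) :
    normalizer (closure P.Q1 : Set G) ≤ P.f.range := by
  obtain ⟨hw3, hw1, -, -⟩ := P.el_u_cube
  refine P.normalizer_of_centralizer hS (P.centralizer_q1 h3 hS) hw3 hw1 ?_
  rw [P.mem_centralizer_pair]
  constructor
  · rw [P.D_mul (by decide) (by decide), P.D_mul (by decide) (by decide)]; rfl
  · rw [P.D_mul (by decide) (by decide), P.D_mul (by decide) (by decide)]; rfl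

/-- The normaliser of the second quaternion factor lies in the image. -/
theorem normalizer_q2 (h3 : P.CentThree) (hS : P.ConjThree) :
    normalizer (closure P.Q2 : Set G) ≤ P.f.range := by
  obtain ⟨-, -, hz3, hz1⟩ := P.el_u_cube
  refine P.normalizer_of_centralizer hS ?_ hz3 hz1 ?_
  · intro g hg
    obtain ⟨h1, h2⟩ := P.mem_centralizer_pair.1 hg
    have eI := P.sw_conj (A := qE) (B := qI) (by decide)
    have eJ := P.sw_conj (A := qE) (B := qJ) (by decide)
    have h : P.f sw * g * (P.f sw)⁻¹ ∈ centralizer P.Q1 := by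
      rw [P.mem_centralizer_pair, ← eI, ← eJ]
      constructor
      · calc P.f sw * g * (P.f sw)⁻¹ * (P.f sw * P.D qE qI * (P.f sw)⁻¹)
            = P.f sw * (g * P.D qE qI) * (P.f sw)⁻¹ := by group
          _ = _ := by rw [h1]; group
      · calc P.f sw * g * (P.f sw)⁻¹ * (P.f sw * P.D qE qJ * (P.f sw)⁻¹)
            = P.f sw * (g * P.D qE qJ) * (P.f sw)⁻¹ := by group
          _ = _ := by rw [h2]; group
    have h' := P.centralizer_q1 h3 hS h
    have e : g = (P.f sw)⁻¹ * (P.f sw * g * (P.f sw)⁻¹) * P.f sw := by group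
    rw [e]
    exact mul_mem (mul_mem (inv_mem ⟨sw, rfl⟩) h') ⟨sw, rfl⟩
  · rw [P.mem_centralizer_pair]
    constructor
    · rw [P.D_mul (by decide) (by decide), P.D_mul (by decide) (by decide)]; rfl
    · rw [P.D_mul (by decide) (by decide), P.D_mul (by decide) (by decide)]; rfl

end Hyp

end Cfsg.Agent.L43Three.CaseB
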