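import Cfsg.Agent.Lib.L43Three.CaseB.Invol.Cyclic

/-!
S3373, case B: elements of the centraliser of the involution controlling fusion in the image.
-/

set_option autoImplicit false
set_option linter.style.haveILetI false
set_option linter.unusedSectionVars false
set_option maxHeartbeats 1000000
set_option maxRecDepth 20000
set_option synthInstance.maxSize 1000

namespace Cfsg.Agent.L43Three.CaseB

open Subgroup

theorem F3.mul_det_self : ∀ A : M2, (A.mul A).det = A.det.mul A.det := by decide +kernel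

theorem M2.mul_one : ∀ A : M2, A.mul qE = A := by decide +kernel

theorem M2.one_mul : ∀ A : M2, qE.mul A = A := by decide +kernel

theorem M2.det_ne_of_mul {A B : M2} (h : A.det.mul B.det = .o) : A.det ≠ .z ∧ B.det ≠ .z :=
  (by decide : ∀ a b : F3, a.mul b = .o → a ≠ .z ∧ b ≠ .z) _ _ h

/-- A block conjugating `i` into the span of `i` up to sign fixes or inverts it. -/
theorem M2.conj_i : ∀ A : M2, A.det ≠ .z → ∀ q ∈ [qE, qN, qI, qI.neg],
    (A.mul qI = q.mul A ∨ A.mul qI = (q.mul A).neg) →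
    A.mul qI = qI.mul A ∨ A.mul qI = qI.neg.mul A := by decide +kernel

namespace Hyp

universe u

variable {G : Type u} [Group G] [Finite G] (P : Hyp G)

/-- Fusion of the element in the centraliser of the involution is controlled by the image. -/
def Rigid (p : G) : Prop :=
  ∀ h ∈ centralizer ({P.f t4} : Set G), h * p * h⁻¹ ∈ P.f.range → h ∈ P.f.range

include P

theorem D_mem_cent {A B : M2} (h : A.det.mul B.det = .o) :
    P.D A B ∈ centralizer ({P.f t4} : Set G) := by
  rw [mem_centralizer_singleton_iff, ← P.D_t, P.D_mul h (by decide), P.D_mul (by decide) h]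
  rw [M2.mul_one, M2.one_mul, (by decide +kernel : ∀ A : M2, A.mul qN = qN.mul A) A]

theorem sw_mem_cent : P.f sw ∈ centralizer ({P.f t4} : Set G) := by
  rw [mem_centralizer_singleton_iff]
  have h := P.sw_conj (A := qN) (B := qE) (by decide)
  rw [P.D_t, P.D_eq (C := qN) (E := qE) (by decide) (by decide) (by decide), P.D_t] at h
  exact mul_inv_eq_iff_eq_mul.1 h

theorem rigid_conj {p m : G} (hp : P.Rigid p) (hmX : m ∈ centralizer ({P.f t4} : Set G))
    (hm : m ∈ P.f.range) : P.Rigid (m * p * m⁻¹) := by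
  intro h hh hin
  have h1 := hp (h * m) (mul_mem hh hmX) (by
    have e : h * m * p * (h * m)⁻¹ = h * (m * p * m⁻¹) * h⁻¹ := by group
    rw [e]; exact hin)
  simpa using mul_mem h1 (inv_mem hm)

theorem rigid_mul_t {p : G} (hp : P.Rigid p) : P.Rigid (p * P.f t4) := by
  intro h hh hin
  refine hp h hh ?_
  have e : h * p * h⁻¹ = h * (p * P.f t4) * h⁻¹ * (P.f t4)⁻¹ := by
    have : P.f t4 * h⁻¹ = h⁻¹ * P.f t4 :=
      (mem_centralizer_singleton_iff.1 (inv_mem hh)).symm
    rw [show h * (p * P.f t4) * h⁻¹ = h * p * (P.f t4 * h⁻¹) by group, this]; group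
  rw [e]; exact mul_mem hin (inv_mem ⟨_, rfl⟩)

theorem rigid_three (hS : P.ConjThree) {x : S4} (hx : x ^ 3 = 1) (hx1 : x ≠ 1) :
    P.Rigid (P.f x) := fun h _ hin => hS x h hx hx1 hin

theorem rigid_pow {p : G} (n : ℕ) (hp : P.Rigid (p ^ n)) : P.Rigid p := fun h hh hin =>
  hp h hh (by rw [← conj_pow]; exact pow_mem hin n)

theorem D_mul_t {A B : M2} (h : A.det.mul B.det = .o) : P.D A B * P.f t4 = P.D A.neg B := by
  rw [← P.D_t, P.D_mul h (by decide), M2.mul_one,
    (by decide +kernel : ∀ A : M2, A.mul qN = A.neg) A]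

/-- A squared image of block elements. -/
theorem D_sq {A B : M2} (h : A.det.mul B.det = .o) :
    (A.mul A).det.mul (B.mul B).det = .o ∧ P.D A B * P.D A B = P.D (A.mul A) (B.mul B) := by
  refine ⟨?_, P.D_mul h h⟩
  rw [F3.mul_det_self, F3.mul_det_self]
  exact (by decide : ∀ a b : F3, a.mul b = .o → (a.mul a).mul (b.mul b) = .o) _ _ h

theorem sq_of_anti {x : S4} {A B : M2} (hc : code x = ad A B) :
    (A.mul B).det.mul (B.mul A).det = .o ∧ P.f x * P.f x = P.D (A.mul B) (B.mul A) := by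
  have hd : (dg (A.mul B) (B.mul A)).det = .o := by
    have := det_code (x * x)
    rwa [code_mul, hc, ad_mul_ad] at this
  exact ⟨by rw [← det_dg]; exact hd,
    by rw [D, el, ← map_mul]; exact congrArg P.f (eq_mkS (by rw [code_mul, hc, ad_mul_ad]))⟩

theorem M_conj_first : ∀ C ∈ [qI, qJ, qK], ∃ a : K,
    (qUp a).det.mul qE.det = .o ∧ C.det.mul qE.det = .o ∧
    Pm ((qUp a).mul qI) (C.mul (qUp a)) (qE.mul qE) (qE.mul qE) := by decide +kernel

/-- The element of order four controls fusion. -/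
theorem rigid_i (h3 : P.CentThree) (hS : P.ConjThree) : P.Rigid (P.D qI qE) := by
  intro g hg hgH
  set y := g * P.D qI qE * g⁻¹ with hy
  have hyX : y ∈ centralizer ({P.f t4} : Set G) :=
    mul_mem (mul_mem hg (P.D_mem_cent (by decide))) (inv_mem hg)
  have hy2 : y * y = P.f t4 := by
    calc y * y = g * (P.D qI qE * P.D qI qE) * g⁻¹ := by rw [hy]; group
      _ = g * P.f t4 * g⁻¹ := by rw [P.sq_one]
      _ = P.f t4 := by rw [mem_centralizer_singleton_iff.1 hg]; group
  obtain ⟨A, B, ⟨x, hx, hc, hd⟩ | ⟨x, hx, hc, hd⟩⟩ := P.blocks_of_mem hyX hgH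
  · have hxD : P.f x = P.D A B := congrArg P.f (eq_mkS hc)
    rw [← hx, hxD] at hy hy2
    rw [(P.D_sq hd).2, ← P.D_t] at hy2
    have key : ∀ A B : M2, A.det.mul B.det = .o → Pm (A.mul A) qN (B.mul B) qE →
        ∃ C ∈ [qI, qJ, qK], Pm A C B qE ∨ Pm A C.neg B qE ∨ Pm A qE B C ∨ Pm A qN B C := by
      decide +kernel
    obtain ⟨C, hC, hcase⟩ := key A B hd (P.pm_of_eq (P.D_sq hd).1 (by decide) hy2)
    obtain ⟨a, hda, hdC, hconj⟩ := P.M_conj_first C hC
    obtain ⟨m, hmX, hmH, hm⟩ : ∃ m ∈ centralizer ({P.f t4} : Set G), m ∈ P.f.range ∧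
        (P.D A B = m * P.D qI qE * m⁻¹ ∨
          P.D A B = m * (P.D qI qE * P.f t4) * m⁻¹) := by
      set m₁ := P.D (qUp a) qE with hm₁
      have h1 : m₁ * P.D qI qE * m₁⁻¹ = P.D C qE := P.conj_of hda (by decide) hdC hconj
      have hX1 : m₁ ∈ centralizer ({P.f t4} : Set G) := P.D_mem_cent hda
      have h2 : m₁ * (P.D qI qE * P.f t4) * m₁⁻¹ = P.D C.neg qE := by
        rw [← P.D_mul_t hdC, ← h1]
        have := mem_centralizer_singleton_iff.1 (inv_mem hX1)
        calc m₁ * (P.D qI qE * P.f t4) * m₁⁻¹ = m₁ * P.D qI qE * (P.f t4 * m₁⁻¹) := by group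
          _ = _ := by rw [← this]; group
      have hdn : C.neg.det.mul qE.det = .o ∧ qE.det.mul C.det = .o ∧ qN.det.mul C.det = .o := by
        revert hC
        exact (by decide +kernel : ∀ C ∈ [qI, qJ, qK],
          C.neg.det.mul qE.det = .o ∧ qE.det.mul C.det = .o ∧ qN.det.mul C.det = .o) C
      rcases hcase with e | e | e | e
      · exact ⟨m₁, hX1, ⟨_, rfl⟩, Or.inl (by rw [h1, P.D_eq hd hdC e])⟩
      · exact ⟨m₁, hX1, ⟨_, rfl⟩, Or.inr (by rw [h2, P.D_eq hd hdn.1 e])⟩
      · refine ⟨P.f sw * m₁, mul_mem P.sw_mem_cent hX1, mul_mem ⟨_, rfl⟩ ⟨_, rfl⟩, Or.inl ?_⟩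
        rw [P.D_eq hd hdn.2.1 e, ← P.sw_conj hdC, ← h1]; group
      · refine ⟨P.f sw * m₁, mul_mem P.sw_mem_cent hX1, mul_mem ⟨_, rfl⟩ ⟨_, rfl⟩, Or.inr ?_⟩
        have eN : P.D qN C = P.D qE C.neg := P.D_eq hdn.2.2
          (by revert hC; exact (by decide +kernel : ∀ C ∈ [qI, qJ, qK], qE.det.mul C.neg.det = .o) C)
          (Or.inr ⟨rfl, (by decide +kernel : ∀ C : M2, C = C.neg.neg) C⟩)
        rw [P.D_eq hd hdn.2.2 e, eN, ← P.sw_conj hdn.1, ← h2]; group
    have hk : m⁻¹ * g ∈ P.f.range := by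
      refine P.normalizer_i h3 hS (mem_normalizer_closure ?_)
      rintro _ rfl
      have mI : P.D qI qE ∈ closure ({P.D qI qE} : Set G) := subset_closure rfl
      have e : m⁻¹ * g * P.D qI qE * (m⁻¹ * g)⁻¹ = m⁻¹ * P.D A B * m := by rw [hy]; group
      rw [e]
      rcases hm with h | h <;> rw [h]
      · simpa [mul_assoc] using mI
      · have e2 : m⁻¹ * (m * (P.D qI qE * P.f t4) * m⁻¹) * m =
            P.D qI qE * (P.D qI qE * P.D qI qE) := by rw [P.sq_one]; group
        rw [e2]; exact mul_mem mI (mul_mem mI mI)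
    simpa using mul_mem hmH hk
  · rw [← hx] at hy2
    rw [(P.sq_of_anti hc).2, ← P.D_t] at hy2
    have key : ∀ A B : M2, A.det.mul B.det = .o → ¬ Pm (A.mul B) qN (B.mul A) qE := by
      decide +kernel
    exact absurd (P.pm_of_eq (P.sq_of_anti hc).1 (by decide) hy2) (key A B hd)

/-- The six elements of order four in the quaternion factors control fusion. -/
theorem rigid_six (h3 : P.CentThree) (hS : P.ConjThree) {C : M2} (hC : C ∈ [qI, qJ, qK]) :
    P.Rigid (P.D C qE) ∧ P.Rigid (P.D qE C) := by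
  obtain ⟨a, hda, hdC, hconj⟩ := P.M_conj_first C hC
  have h1 : P.Rigid (P.D C qE) := by
    rw [← P.conj_of hda (by decide) hdC hconj]
    exact P.rigid_conj (P.rigid_i h3 hS) (P.D_mem_cent hda) ⟨_, rfl⟩
  refine ⟨h1, ?_⟩
  rw [← P.sw_conj hdC]
  exact P.rigid_conj h1 P.sw_mem_cent ⟨_, rfl⟩

theorem four_mem {x : G} (hx : x ∈ closure ({P.D qI qI, P.f t4} : Set G)) :
    ∃ p ∈ [(qE, qE), (qN, qE), (qI, qI), (qI.neg, qI)], x = P.D p.1 p.2 := by
  induction hx using closure_induction with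
  | mem y hy =>
    rcases hy with rfl | rfl
    · exact ⟨(qI, qI), by simp, rfl⟩
    · exact ⟨(qN, qE), by simp, P.D_t.symm⟩
  | one => exact ⟨(qE, qE), by simp, P.D_one.symm⟩
  | mul y z _ _ ihy ihz =>
    obtain ⟨p, hp, rfl⟩ := ihy
    obtain ⟨q, hq, rfl⟩ := ihz
    have key : ∀ p ∈ [(qE, qE), (qN, qE), (qI, qI), (qI.neg, qI)],
        ∀ q ∈ [(qE, qE), (qN, qE), (qI, qI), (qI.neg, qI)],
        p.1.det.mul p.2.det = .o ∧ q.1.det.mul q.2.det = .o ∧
        (p.1.mul q.1).det.mul (p.2.mul q.2).det = .o ∧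
        ∃ r ∈ [(qE, qE), (qN, qE), (qI, qI), (qI.neg, qI)], r.1.det.mul r.2.det = .o ∧
          Pm (p.1.mul q.1) r.1 (p.2.mul q.2) r.2 := by decide +kernel
    obtain ⟨hdp, hdq, hd, r, hr, hdr, e⟩ := key p hp q hq
    exact ⟨r, hr, by rw [P.D_mul hdp hdq, P.D_eq hd hdr e]⟩
  | inv y _ ihy =>
    obtain ⟨p, hp, rfl⟩ := ihy
    have key : ∀ p ∈ [(qE, qE), (qN, qE), (qI, qI), (qI.neg, qI)],
        p.1.det.mul p.2.det = .o ∧ Pm (p.1.mul p.1) qE (p.2.mul p.2) qE := by decide +kernel
    obtain ⟨hdp, e⟩ := key p hp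
    exact ⟨p, hp, P.D_mul_inv hdp hdp e⟩

/-- The centraliser, modulo the involution, of a product of two elements of order four. -/
theorem cent_e (h3 : P.CentThree) (hS : P.ConjThree) {g : G}
    (hg : g ∈ centralizer ({P.f t4} : Set G))
    (he : g * P.D qI qI * g⁻¹ = P.D qI qI ∨ g * P.D qI qI * g⁻¹ = P.D qI qI * P.f t4) :
    g ∈ P.f.range := by
  set K : Subgroup G := closure ({P.D qI qI, P.f t4} : Set G) with hKdef
  set N : Subgroup G := centralizer ({P.f t4} : Set G) ⊓ normalizer (K : Set G) with hN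
  have mE : P.D qI qI ∈ K := subset_closure (Or.inl rfl)
  have mT : P.f t4 ∈ K := subset_closure (Or.inr rfl)
  have inN : ∀ h ∈ centralizer ({P.f t4} : Set G), h * P.D qI qI * h⁻¹ ∈ K → h ∈ N :=
    fun h hh h' => ⟨hh, mem_normalizer_closure (by
      rintro _ (rfl | rfl)
      · exact h'
      · rw [mul_inv_eq_iff_eq_mul.2 (mem_centralizer_singleton_iff.1 hh)]; exact mT)⟩
  suffices hmain : N ≤ P.f.range by
    refine hmain (inN g hg ?_)
    rcases he with e | e <;> rw [e]
    exacts [mE, mul_mem mE mT]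
  have hKH : K ≤ P.f.range := by
    rw [hKdef, closure_le]; rintro _ (rfl | rfl) <;> exact ⟨_, rfl⟩
  have dI : (qI : M2).det.mul qE.det = .o := by decide
  have hiN : P.D qI qE ∈ N := inN _ (P.D_mem_cent dI) (by
    rw [P.conj_of (E := qI) (F := qI) dI (by decide) (by decide) (by decide +kernel)]; exact mE)
  have hjN : P.D qJ qE ∈ N := inN _ (P.D_mem_cent (by decide)) (by
    rw [P.conj_of (E := qI.neg) (F := qI) (by decide) (by decide) (by decide +kernel)
      (by decide +kernel), ← P.D_mul_t (by decide)]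
    exact mul_mem mE mT)
  have hii : P.D qI qE * P.D qI qE ∈ K := by rw [P.sq_one]; exact mT
  have notK : ∀ A B : M2, A.det.mul B.det = .o →
      (∀ p ∈ [(qE, qE), (qN, qE), (qI, qI), (qI.neg, qI)], ¬ Pm A p.1 B p.2) → P.D A B ∉ K := by
    intro A B hd hne h
    obtain ⟨p, hp, e⟩ := P.four_mem h
    refine hne p hp (P.pm_of_eq hd ?_ e)
    revert hp; revert p
    intro p _ hp
    exact (by decide +kernel : ∀ p ∈ [(qE, qE), (qN, qE), (qI, qI), (qI.neg, qI)],
      p.1.det.mul p.2.det = .o) p hp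
  have hiK : P.D qI qE ∉ K := notK _ _ dI (by decide +kernel)
  have six := P.rigid_i h3 hS
  have toH : ∀ {p c : G}, c * p⁻¹ ∈ K → p ∈ P.f.range → c ∈ P.f.range := fun {p c} h hp => by
    simpa using mul_mem (hKH h) hp
  refine le_of_isolated (j := P.D qI qE) inf_le_right hKH hiN hii hiK ?_ ?_ ?_
  · intro h hh hc
    set y := h * P.D qI qE * h⁻¹ with hy
    have hyX : y ∈ centralizer ({P.f t4} : Set G) :=
      mul_mem (mul_mem hh.1 hiN.1) (inv_mem hh.1)
    have hyH : y ∈ P.f.range := six y hyX (toH hc ⟨_, rfl⟩)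
    have hH : h ∈ P.f.range := six h hh.1 hyH
    obtain ⟨p, hp, hpe⟩ := P.four_mem ((mem_normalizer_iff.1 hh.2 _).1 mE)
    have hdp : p.1.det.mul p.2.det = .o :=
      (by decide +kernel : ∀ p ∈ [(qE, qE), (qN, qE), (qI, qI), (qI.neg, qI)],
        p.1.det.mul p.2.det = .o) p hp
    obtain ⟨A, B, ⟨x, hx, hc', hd⟩ | ⟨x, hx, hc', hd⟩⟩ := P.blocks_of_mem hh.1 hH
    · subst hx
      have c1 := P.conj_diag hc' (by decide) hdp hpe
      have hp1 : p.1 ∈ [qE, qN, qI, qI.neg] :=
        (by decide +kernel : ∀ p ∈ [(qE, qE), (qN, qE), (qI, qI), (qI.neg, qI)],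
          p.1 ∈ [qE, qN, qI, qI.neg]) p hp
      have hBE : B.mul qE = qE.mul B := by rw [M2.mul_one, M2.one_mul]
      have key : Pm (A.mul qI) (qI.mul A) (B.mul qE) (qE.mul B) ∨
          Pm (A.mul qI) (qI.neg.mul A) (B.mul qE) (qE.mul B) :=
        (M2.conj_i A (M2.det_ne_of_mul hd).1 _ hp1 (c1.imp And.left And.left)).imp
          (fun e => Or.inl ⟨e, hBE⟩) fun e => Or.inl ⟨e, hBE⟩
      have hxD : P.f x = P.D A B := congrArg P.f (eq_mkS hc')
      rw [hy, hxD]
      rcases key with e | e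
      · rw [P.conj_of hd dI dI e, mul_inv_cancel]; exact one_mem _
      · rw [P.conj_of hd dI (by decide +kernel) e, ← P.D_mul_t dI]
        have ht := mem_centralizer_singleton_iff.1 hiN.1
        rw [ht, mul_inv_cancel_right]
        exact mT
    · subst hx
      have c1 := P.conj_anti hc' (by decide) hdp hpe
      have hp2 : p.2 ∈ [qE, qN, qI, qI.neg] :=
        (by decide +kernel : ∀ p ∈ [(qE, qE), (qN, qE), (qI, qI), (qI.neg, qI)],
          p.2 ∈ [qE, qN, qI, qI.neg]) p hp
      have hAE : A.mul qE = qE.mul A := by rw [M2.mul_one, M2.one_mul]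
      have key : Pm (A.mul qE) (qE.mul A) (B.mul qI) (qI.mul B) ∨
          Pm (A.mul qE) (qE.mul A) (B.mul qI) (qI.neg.mul B) :=
        (M2.conj_i B (M2.det_ne_of_mul hd).2 _ hp2 (c1.imp And.right And.right)).imp
          (fun e => Or.inl ⟨hAE, e⟩) fun e => Or.inl ⟨hAE, e⟩
      -- the conjugate lies in the other factor
      have e' : ∃ F ∈ [qI, qI.neg], P.f x * P.D qI qE * (P.f x)⁻¹ = P.D qE F := by
        have conv : ∀ F, qE.det.mul F.det = .o → Pm (A.mul qE) (qE.mul A) (B.mul qI) (F.mul B) →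
            P.f x * P.D qI qE * (P.f x)⁻¹ = P.D qE F := by
          intro F hF e
          rw [mul_inv_eq_iff_eq_mul, D, D, ← map_mul, ← map_mul]
          refine P.eq_of_code ?_
          rw [code_mul, code_mul, hc', code_el dI, code_el hF, ad_mul_dg, dg_mul_ad, neg_ad]
          exact e.imp (fun e => by rw [e.1, e.2]) fun e => by rw [e.1, e.2]
        rcases key with e | e
        · exact ⟨qI, by simp, conv _ (by decide) e⟩
        · exact ⟨qI.neg, by simp, conv _ (by decide +kernel) e⟩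
      obtain ⟨F, hF, e⟩ := e'
      have key2 : ∀ F ∈ [qI, qI.neg], qE.det.mul F.det = .o ∧
          (qI.pow 3).det.mul qE.det = .o ∧ Pm (qI.mul (qI.pow 3)) qE (qE.mul qE) qE ∧
          (qE.mul (qI.pow 3)).det.mul (F.mul qE).det = .o ∧
          ∃ q ∈ [(qE, qE), (qN, qE), (qI, qI), (qI.neg, qI)], q.1.det.mul q.2.det = .o ∧
            Pm (qE.mul (qI.pow 3)) q.1 (F.mul qE) q.2 := by decide +kernel
      obtain ⟨hdF, hd3, hinv, hdprod, q, hq, hdq, eq'⟩ := key2 F hF
      rw [hy, e, P.D_mul_inv dI hd3 hinv, P.D_mul hdF hd3, P.D_eq hdprod hdq eq']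
      simp only [List.mem_cons, List.not_mem_nil, or_false] at hq
      rcases hq with rfl | rfl | rfl | rfl
      · rw [P.D_one]; exact one_mem _
      · rw [P.D_t]; exact mT
      · exact mE
      · rw [← P.D_mul_t (by decide)]; exact mul_mem mE mT
  · intro h hh hc
    exact six h hh.1 (toH hc ⟨_, rfl⟩)
  · intro Q _ _ π hker hsur O hn hodd
    have hrel' : ∀ x y : N, π x = π y → (x : G) * (y : G)⁻¹ ∈ K := fun x y h =>
      (hker (x * y⁻¹)).1 (by rw [map_mul, map_inv, h, mul_inv_cancel])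
    set a' : N := ⟨_, hiN⟩ with ha'
    set b' : N := ⟨_, hjN⟩ with hb'
    have e4 : P.D qJ qE * P.D qJ qE = P.f t4 := by
      rw [P.D_mul (by decide) (by decide), ← P.D_t]; rfl
    have hle : O ≤ (P.f.range.subgroupOf N).map π := le_of_four hn hodd (a := π a') (b := π b')
      (by rw [← map_mul, hker]; exact hii)
      (by rw [← map_mul, hker]; push_cast; rw [e4]; exact mT)
      (by
        rw [← map_mul, ← map_mul, ← mul_inv_eq_one, ← map_inv, ← map_mul, hker]
        push_cast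
        rw [P.D_mul dI (by decide), P.D_mul (by decide) dI,
          P.D_mul_inv (C := (qJ.mul qI).mul ((qJ.mul qI).mul (qJ.mul qI))) (E := qE)
            (by decide) (by decide +kernel) (by decide +kernel),
          P.D_mul (by decide +kernel) (by decide +kernel),
          P.D_eq (C := qN) (E := qE) (by decide +kernel) (by decide) (by decide +kernel), P.D_t]
        exact mT)
      (fun h => hiK ((hker a').1 h))
      (fun h => notK qJ qE (by decide) (by decide +kernel) ((hker b').1 h))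
      (fun h => by
        have h1 := hrel' a' b' h
        simp only [ha', hb'] at h1
        rw [P.D_mul_inv (C := qJ.mul (qJ.mul qJ)) (E := qE) (by decide) (by decide +kernel)
          (by decide +kernel), P.D_mul dI (by decide +kernel)] at h1
        exact notK _ _ (by decide +kernel) (by decide +kernel) h1)
      (fun q hq c hc hqc => by
        obtain ⟨x, rfl⟩ := hsur q
        refine ⟨x, mem_subgroupOf.2 ?_, rfl⟩
        have key : ∀ C : M2, C ∈ [qI, qJ, qK] → C.det.mul qE.det = .o →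
            ∀ z : N, (z : G) = P.D C qE → π x * π z = π z * π x → (x : G) ∈ P.f.range := by
          intro C hC hdC z hz hcomm
          have h1 := hrel' (x * z) (z * x) (by rw [map_mul, map_mul, hcomm])
          refine (P.rigid_six h3 hS hC).1 x x.2.1 (toH (p := P.D C qE) ?_ ⟨_, rfl⟩)
          simpa [hz, mul_assoc] using h1
        rcases hc with rfl | rfl | rfl
        · exact key qI (by simp) dI a' rfl hqc
        · exact key qJ (by simp) (by decide) b' rfl hqc
        · refine key qK (by simp) (by decide) (a' * b') ?_ (by rw [map_mul]; exact hqc)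
          push_cast
          rw [P.D_mul dI (by decide)]; rfl)
    intro x hx
    obtain ⟨h, hh, e⟩ := hle hx
    exact toH (hrel' x h e.symm) (mem_subgroupOf.1 hh)

/-- A product of two elements of order four in different factors controls fusion. -/
theorem rigid_e (h3 : P.CentThree) (hS : P.ConjThree) : P.Rigid (P.D qI qI) := by
  intro g hg hgH
  set y := g * P.D qI qI * g⁻¹ with hy
  have dII : (qI : M2).det.mul qI.det = .o := by decide
  have hyX : y ∈ centralizer ({P.f t4} : Set G) :=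
    mul_mem (mul_mem hg (P.D_mem_cent dII)) (inv_mem hg)
  have hy2 : y * y = 1 := by
    have e : P.D qI qI * P.D qI qI = 1 := by
      rw [P.D_mul dII dII, ← P.D_one]; exact P.D_eq (by decide) (by decide) (by decide)
    calc y * y = g * (P.D qI qI * P.D qI qI) * g⁻¹ := by rw [hy]; group
      _ = 1 := by rw [e]; group
  have hgt : P.f t4 * g = g * P.f t4 := (mem_centralizer_singleton_iff.1 hg).symm
  have back : ∀ v ∈ centralizer ({P.f t4} : Set G),
      (v * y * v⁻¹ = y ∨ v * y * v⁻¹ = y * P.f t4) → g⁻¹ * v * g ∈ P.f.range := by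
    intro v hv hvy
    refine P.cent_e h3 hS (mul_mem (mul_mem (inv_mem hg) hv) hg) ?_
    have e : g⁻¹ * v * g * P.D qI qI * (g⁻¹ * v * g)⁻¹ = g⁻¹ * (v * y * v⁻¹) * g := by
      rw [hy]; group
    rw [e]
    rcases hvy with h | h <;> rw [h]
    · exact Or.inl (by rw [hy]; group)
    · refine Or.inr ?_
      calc g⁻¹ * (y * P.f t4) * g = g⁻¹ * y * (P.f t4 * g) := by group
        _ = _ := by rw [hgt, hy]; group
  have fin : ∀ {v : G}, P.Rigid v → g⁻¹ * v * g ∈ P.f.range → g ∈ P.f.range := fun {v} hv h => by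
    have := hv g⁻¹ (inv_mem hg) (by rw [inv_inv]; exact h)
    simpa using inv_mem this
  obtain ⟨A, B, ⟨x, hx, hc, hd⟩ | ⟨x, hx, hc, hd⟩⟩ := P.blocks_of_mem hyX hgH
  · have hxD : P.f x = P.D A B := congrArg P.f (eq_mkS hc)
    rw [← hx, hxD] at hy2
    rw [(P.D_sq hd).2, ← P.D_one] at hy2
    have key : ∀ A B : M2, A.det.mul B.det = .o → Pm (A.mul A) qE (B.mul B) qE →
        ∃ C ∈ [qI, qJ, qK], C.det.mul qE.det = .o ∧
          (Pm (C.mul A) (A.mul C) (qE.mul B) (B.mul qE) ∨
           (A.neg.det.mul B.det = .o ∧ Pm (C.mul A) (A.neg.mul C) (qE.mul B) (B.mul qE))) := by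
      decide +kernel
    obtain ⟨C, hC, hdC, hp⟩ := key A B hd (P.pm_of_eq (P.D_sq hd).1 (by decide) hy2)
    refine fin (P.rigid_six h3 hS hC).1 (back _ (P.D_mem_cent hdC) ?_)
    rw [← hx, hxD]
    rcases hp with e | ⟨hdn, e⟩
    · exact Or.inl (P.conj_of hdC hd hd e)
    · exact Or.inr (by rw [P.conj_of hdC hd hdn e, P.D_mul_t hd])
  · rw [← hx] at hy2
    rw [(P.sq_of_anti hc).2, ← P.D_one] at hy2
    have key : ∀ A B : M2, A.det.mul B.det = .o → Pm (A.mul B) qE (B.mul A) qE →
        ∃ W ∈ [B.mul (qU.mul A), (B.mul (qU.mul A)).neg], qU.det.mul W.det = .o ∧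
          (W.mul W).mul W = qE ∧ Pm (qU.mul A) (A.mul W) (W.mul B) (B.mul qU) := by
      decide +kernel
    obtain ⟨W, _, hdW, hW3, hp⟩ := key A B hd (P.pm_of_eq (P.sq_of_anti hc).1 (by decide) hy2)
    have hs3 : el qU W ^ 3 = 1 := code_injective (by
      rw [code_pow, code_el hdW, code_one, one_eq]
      show M4.mul (M4.mul (M4.mul M4.one (dg qU W)) (dg qU W)) (dg qU W) = _
      rw [one_eq, dg_mul_dg, dg_mul_dg, dg_mul_dg, M2.one_mul, M2.one_mul, hW3,
        (by decide +kernel : (qU.mul qU).mul qU = qE)])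
    have hs1 : el qU W ≠ 1 := fun h => by
      have := congrArg code h
      rw [code_el hdW, code_one, one_eq] at this
      exact absurd (dg_injective this).1 (by decide)
    refine fin (P.rigid_three hS hs3 hs1) (back _ (P.D_mem_cent hdW) (Or.inl ?_))
    rw [← hx, mul_inv_eq_iff_eq_mul, ← map_mul, ← map_mul]
    refine P.eq_of_code ?_
    rw [code_mul, code_mul, hc, code_el hdW, dg_mul_ad, ad_mul_dg, neg_ad]
    exact hp.imp (fun e => by rw [e.1, e.2]) fun e => by rw [e.1, e.2]

/-- All nine products control fusion. -/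
theorem rigid_nine (h3 : P.CentThree) (hS : P.ConjThree) {C C' : M2} (hC : C ∈ [qI, qJ, qK])
    (hC' : C' ∈ [qI, qJ, qK]) : P.Rigid (P.D C C') := by
  have key : ∀ C ∈ [qI, qJ, qK], ∀ C' ∈ [qI, qJ, qK], C.det.mul C'.det = .o ∧ ∃ a b : K,
      (qUp a).det.mul (qUp b).det = .o ∧
      Pm ((qUp a).mul qI) (C.mul (qUp a)) ((qUp b).mul qI) (C'.mul (qUp b)) := by decide +kernel
  obtain ⟨hdC, a, b, hd, hp⟩ := key C hC C' hC'
  rw [← P.conj_of hd (by decide) hdC hp]
  exact P.rigid_conj (P.rigid_e h3 hS) (P.D_mem_cent hd) ⟨_, rfl⟩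

/-- Elements of the image of the product of the two special linear groups control fusion. -/
theorem rigid_special (h3 : P.CentThree) (hS : P.ConjThree) {A B : M2}
    (hA : A.det = .o) (hB : B.det = .o) :
    P.D A B = 1 ∨ P.D A B = P.f t4 ∨ P.Rigid (P.D A B) := by
  have hd : A.det.mul B.det = .o := by rw [hA, hB]; rfl
  have k1 : ∀ A : M2, A.det = .o → (A.mul A).det = .o ∧ ((A.mul A).mul (A.mul A)).det = .o ∧
      (let F := (A.mul A).mul (A.mul A); (F.mul F).mul F = qE) := by decide +kernel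
  obtain ⟨a2, a4, a12⟩ := k1 A hA
  obtain ⟨b2, b4, b12⟩ := k1 B hB
  by_cases h4 : (A.mul A).mul (A.mul A) = qE ∧ (B.mul B).mul (B.mul B) = qE
  · have k2 : ∀ A : M2, A.det = .o → (A.mul A).mul (A.mul A) = qE →
        ∃ C ∈ [qE, qI, qJ, qK], A = C ∨ A = C.neg := by decide +kernel
    obtain ⟨C, hC, eA⟩ := k2 A hA h4.1
    obtain ⟨C', hC', eB⟩ := k2 B hB h4.2
    have k3 : ∀ C ∈ [qE, qI, qJ, qK], ∀ C' ∈ [qE, qI, qJ, qK],
        C.det.mul C'.det = .o ∧ C.neg.det.mul C'.det = .o := by decide +kernel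
    obtain ⟨hdC, hdN⟩ := k3 C hC C' hC'
    have hcase : P.D A B = P.D C C' ∨ P.D A B = P.D C C' * P.f t4 := by
      rw [P.D_mul_t hdC]
      have nn : C'.neg.neg = C' ∧ C.neg.neg = C := ⟨(by decide +kernel : ∀ C : M2, C.neg.neg = C) C',
        (by decide +kernel : ∀ C : M2, C.neg.neg = C) C⟩
      rcases eA with rfl | rfl <;> rcases eB with rfl | rfl
      · exact Or.inl rfl
      · exact Or.inr (P.D_eq hd hdN (Or.inr ⟨nn.2.symm, rfl⟩))
      · exact Or.inr rfl
      · exact Or.inl (P.D_eq hd hdC (Or.inr ⟨rfl, rfl⟩))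
    have tt : P.f t4 * P.f t4 = 1 := by
      rw [← P.D_t, P.D_mul (by decide) (by decide), ← P.D_one]
      exact P.D_eq (by decide) (by decide) (by decide)
    by_cases hE : C = qE ∧ C' = qE
    · obtain ⟨rfl, rfl⟩ := hE
      rw [P.D_one, one_mul] at hcase
      exact hcase.imp id Or.inl
    · refine Or.inr (Or.inr ?_)
      have hr : P.Rigid (P.D C C') := by
        simp only [List.mem_cons, List.not_mem_nil, or_false] at hC hC'
        rcases hC with rfl | hC
        · rcases hC' with rfl | hC'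
          · exact absurd ⟨rfl, rfl⟩ hE
          · exact (P.rigid_six h3 hS (by simpa using hC')).2
        · rcases hC' with rfl | hC'
          · exact (P.rigid_six h3 hS (by simpa using hC)).1
          · exact P.rigid_nine h3 hS (by simpa using hC) (by simpa using hC')
      rcases hcase with e | e <;> rw [e]
      exacts [hr, P.rigid_mul_t hr]
  · refine Or.inr (Or.inr (P.rigid_pow 4 ?_))
    have hd2 : (A.mul A).det.mul (B.mul B).det = .o := by rw [a2, b2]; rfl
    have hd4 : ((A.mul A).mul (A.mul A)).det.mul ((B.mul B).mul (B.mul B)).det = .o := by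
      rw [a4, b4]; rfl
    have e4 : P.D A B ^ 4 = P.D ((A.mul A).mul (A.mul A)) ((B.mul B).mul (B.mul B)) := by
      rw [show (4 : ℕ) = 2 * 2 from rfl, pow_mul, pow_two, pow_two, P.D_mul hd hd,
        P.D_mul hd2 hd2]
    rw [e4]
    refine P.rigid_three hS (code_injective ?_) fun h => h4 ?_
    · rw [code_pow, code_el hd4, code_one, one_eq]
      show M4.mul (M4.mul (M4.mul M4.one _) _) _ = _
      rw [one_eq, dg_mul_dg, dg_mul_dg, dg_mul_dg, M2.one_mul, M2.one_mul, a12, b12]
    · have := congrArg code h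
      rw [code_el hd4, code_one, one_eq] at this
      exact dg_injective this

end Hyp

end Cfsg.Agent.L43Three.CaseB
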